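import Groth.Agent.H0Lib.Rigidity

/-!
# Consequences of rigidity
-/

set_option autoImplicit false

universe u

open CategoryTheory CategoryTheory.Limits AlgebraicGeometry Opposite TopologicalSpace

namespace H0Lib

theorem surjective_of_h0Fib {X S : Scheme.{u}} (f : X ⟶ S) (h : H0Fib f) : Surjective f := by
  refine ⟨fun s => ?_⟩
  haveI := h (S.residueField s) (S.fromSpecResidueField s)
  haveI : IsIso (f.fiberToSpecResidueField s).appTop := h (S.residueField s) (S.fromSpecResidueField s)
  haveI : Nontrivial Γ(f.fiber s, ⊤) := Function.Injective.nontrivial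
    (ConcreteCategory.bijective_of_isIso ((Scheme.ΓSpecIso (S.residueField s)).inv ≫ (f.fiberToSpecResidueField s).appTop)).1
  obtain ⟨z⟩ : Nonempty (f.fiber s) := by
    by_contra hE
    rw [not_nonempty_iff] at hE
    exact not_subsingleton Γ(f.fiber s, ⊤) inferInstance
  refine ⟨(f.fiberι s).base z, ?_⟩
  have hz := Set.mem_range_self (f := (f.fiberι s).base) z
  rwa [f.range_fiberι] at hz

theorem geometricallyConnected_of_integral {X S : Scheme.{u}} (f : X ⟶ S) [GeometricallyIntegral f] :
    GeometricallyConnected f := by
  constructor
  intro K _ y Y g p sq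
  haveI : IsIntegral Y := GeometricallyIntegral.geometrically_isIntegral (f := f) y g p sq
  infer_instance

theorem H0Fib.of_geometricallyIntegral {X S : Scheme.{u}} (f : X ⟶ S) [UniversallyClosed f] [QuasiSeparated f]
    [GeometricallyIntegral f] : H0Fib f := by
  haveI := geometricallyConnected_of_integral f
  exact H0Fib.of_geometrically f

end H0Lib
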