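import Groth.Agent.H0Lib.Approx

/-!
# Proper flat morphisms with constant global functions on the fibres
-/

set_option autoImplicit false

universe u

open CategoryTheory CategoryTheory.Limits AlgebraicGeometry Opposite TopologicalSpace

namespace H0Lib

variable {X S : Scheme.{u}}

theorem isIso_appTop_of_fib {A : CommRingCat.{u}} (f : X ⟶ Spec A) [IsProper f] [Flat f]
    [LocallyOfFinitePresentation f] (h : H0Fib f) : IsIso f.appTop := by
  refine isIso_appTop_of_localization f fun P hP => ?_
  let R := CommRingCat.of (Localization.AtPrime P)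
  let a := Spec.map (CommRingCat.ofHom (algebraMap A (Localization.AtPrime P)) : A ⟶ R)
  let f' := pullback.snd f a
  haveI : IsProper f' := MorphismProperty.pullback_snd _ _ inferInstance
  haveI : Flat f' := MorphismProperty.pullback_snd _ _ ‹Flat f›
  haveI : LocallyOfFinitePresentation f' := MorphismProperty.pullback_snd _ _ ‹LocallyOfFinitePresentation f›
  haveI : IsLocalRing R := inferInstanceAs (IsLocalRing (Localization.AtPrime P))
  exact isIso_appTop_of_local f' (h.baseChange (IsPullback.of_hasPullback f a) _ _)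

theorem bijective_app_affine (f : X ⟶ S) [IsProper f] [Flat f]
    [LocallyOfFinitePresentation f] (h : H0Fib f) {U : S.Opens} (hU : IsAffineOpen U) :
    Function.Bijective (f.app U).hom := by
  let g := f ∣_ U ≫ hU.isoSpec.hom
  haveI : IsProper (f ∣_ U) := IsZariskiLocalAtTarget.restrict ‹IsProper f› U
  haveI : Flat (f ∣_ U) := IsZariskiLocalAtTarget.restrict ‹Flat f› U
  haveI : LocallyOfFinitePresentation (f ∣_ U) := IsZariskiLocalAtTarget.restrict ‹LocallyOfFinitePresentation f› U
  haveI : Flat g := MorphismProperty.comp_mem _ _ _ ‹Flat (f ∣_ U)› inferInstance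
  have hg : H0Fib g := by
    refine (h.baseChange (isPullback_morphismRestrict f U).flip).baseChange (g := hU.isoSpec.inv) (g' := 𝟙 _) ?_
    exact IsPullback.of_horiz_isIso ⟨by simp [g]⟩
  haveI := isIso_appTop_of_fib g hg
  haveI : IsIso hU.isoSpec.hom.appTop := inferInstanceAs (IsIso (Scheme.Γ.map hU.isoSpec.hom.op))
  haveI : IsIso (hU.isoSpec.hom.appTop ≫ (f ∣_ U).appTop) := by rw [← Scheme.Hom.comp_appTop]; infer_instance
  haveI : IsIso (f ∣_ U).appTop := IsIso.of_isIso_comp_left hU.isoSpec.hom.appTop _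
  have h2 := ConcreteCategory.bijective_of_isIso ((f ∣_ U).appTop)
  haveI : IsIso (f.app (U.ι ''ᵁ ⊤)) := by
    rw [ConcreteCategory.isIso_iff_bijective]
    rw [morphismRestrict_appTop] at h2
    exact (Function.Bijective.of_comp_iff'
      (ConcreteCategory.bijective_of_isIso (X.presheaf.map (eqToHom (image_morphismRestrict_preimage f U ⊤)).op)) _).mp h2
  have e : U.ι ''ᵁ ⊤ = U := by simp
  exact e ▸ ConcreteCategory.bijective_of_isIso (f.app (U.ι ''ᵁ ⊤))

/-- Proper flat finitely presented morphisms with constant functions on the fibres: `f_*O = O`. -/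
theorem bijective_app (f : X ⟶ S) [IsProper f] [Flat f]
    [LocallyOfFinitePresentation f] (h : H0Fib f) (U : S.Opens) : Function.Bijective (f.app U).hom := by
  classical
  have hinj : ∀ V : S.Opens, Function.Injective (f.app V).hom := by
    intro V
    refine (injective_iff_map_eq_zero _).mpr fun s hs => ?_
    have hc : ∀ x : V, ∃ W : S.Opens, IsAffineOpen W ∧ x.1 ∈ W ∧ W ≤ V := fun x => by
      obtain ⟨W, hW, hx, hle⟩ := exists_isAffineOpen_mem_and_subset (U := V) x.2
      exact ⟨W, hW, hx, hle⟩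
    choose W hW hxW hWV using hc
    refine TopCat.Sheaf.eq_of_locally_eq' S.sheaf W V (fun x => homOfLE (hWV x))
      (fun y hy => Opens.mem_iSup.mpr ⟨⟨y, hy⟩, hxW _⟩) s 0 fun x => ?_
    refine (bijective_app_affine f h (hW x)).1 ?_
    refine Eq.trans ?_ ((congrArg (f.app (W x)).hom (map_zero _)).trans (map_zero _)).symm
    have e := congrArg (fun m => (m : Γ(S, V) ⟶ _).hom s) (f.naturality (homOfLE (hWV x)).op)
    simp only [CommRingCat.hom_comp, RingHom.comp_apply] at e
    refine e.trans ?_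
    rw [hs, map_zero]
  refine ⟨hinj U, fun t => ?_⟩
  have hc : ∀ x : U, ∃ W : S.Opens, IsAffineOpen W ∧ x.1 ∈ W ∧ W ≤ U := fun x => by
    obtain ⟨W, hW, hx, hle⟩ := exists_isAffineOpen_mem_and_subset (U := U) x.2
    exact ⟨W, hW, hx, hle⟩
  choose W hW hxW hWU using hc
  have hnat : ∀ {V V' : S.Opens} (i : V' ⟶ V) (s : Γ(S, V)),
      (f.app V').hom ((S.presheaf.map i.op).hom s) =
        (X.presheaf.map (homOfLE (show f ⁻¹ᵁ V' ≤ f ⁻¹ᵁ V from fun _ hy => i.le hy)).op).hom ((f.app V).hom s) :=
    fun {V V'} i s => congrArg (fun m => (m : Γ(S, V) ⟶ Γ(X, f ⁻¹ᵁ V')).hom s) (f.naturality i.op)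
  choose s hs using fun x => (bijective_app_affine f h (hW x)).2
    ((X.presheaf.map (homOfLE (show f ⁻¹ᵁ W x ≤ f ⁻¹ᵁ U from fun _ hy => hWU x hy)).op).hom t)
  obtain ⟨g, hg, -⟩ := TopCat.Sheaf.existsUnique_gluing' S.sheaf W U (fun x => homOfLE (hWU x))
    (fun y hy => Opens.mem_iSup.mpr ⟨⟨y, hy⟩, hxW _⟩) s fun x y => by
      refine hinj _ ?_
      refine (hnat _ _).trans (Eq.trans ?_ (hnat _ _).symm)
      rw [hs, hs, ← ConcreteCategory.comp_apply, ← ConcreteCategory.comp_apply]
      erw [← X.presheaf.map_comp, ← X.presheaf.map_comp]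
      rfl
  refine ⟨g, ?_⟩
  refine TopCat.Sheaf.eq_of_locally_eq' X.sheaf (fun x => f ⁻¹ᵁ W x) (f ⁻¹ᵁ U)
    (fun x => homOfLE fun _ hy => hWU x hy) (fun y hy => Opens.mem_iSup.mpr ⟨⟨f.base y, hy⟩, hxW _⟩) _ _ fun x => ?_
  refine Eq.trans ((hnat (homOfLE (hWU x)) g).symm) ?_
  rw [show (S.presheaf.map (homOfLE (hWU x)).op).hom g = s x from hg x]
  exact hs x

theorem bijective_app_of_geometrically (f : X ⟶ S) [IsProper f] [Flat f] [LocallyOfFinitePresentation f]
    [GeometricallyConnected f] [GeometricallyReduced f] (U : S.Opens) : Function.Bijective (f.app U).hom :=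
  bijective_app f (H0Fib.of_geometrically f) U

end H0Lib
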