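import Groth.Agent.H0Lib.Apply
import Mathlib.CategoryTheory.Monoidal.Cartesian.Over

/-!
# Rigidity for group schemes
-/

set_option autoImplicit false

universe u

open CategoryTheory CategoryTheory.Limits AlgebraicGeometry MonoidalCategory CartesianMonoidalCategory TopologicalSpace
open scoped MonObj

namespace H0Lib

variable {S : Scheme.{u}}

theorem isPullback_lift_left {X Z : Over S} (e : 𝟙_ (Over S) ⟶ X) :
    IsPullback (lift (toUnit Z ≫ e) (𝟙 Z)).left Z.hom (fst X Z).left e.left := by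
  have h1 : (lift (toUnit Z ≫ e) (𝟙 Z)).left ≫ pullback.snd X.hom Z.hom = 𝟙 _ :=
    congrArg CommaMorphism.left (lift_snd (toUnit Z ≫ e) (𝟙 Z))
  have h2 : (lift (toUnit Z ≫ e) (𝟙 Z)).left ≫ pullback.fst X.hom Z.hom = Z.hom ≫ e.left :=
    congrArg CommaMorphism.left (lift_fst (toUnit Z ≫ e) (𝟙 Z))
  have he : e.left ≫ X.hom = 𝟙 S := Over.w e
  refine IsPullback.of_right ?_ h2 (IsPullback.of_hasPullback X.hom Z.hom).flip
  rw [h1, he]
  exact IsPullback.of_horiz_isIso ⟨by simp⟩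

/-- A morphism on a product constant on one slice factors through the projection. -/
theorem eq_fst_comp {X Z Y : Over S} [IsProper Z.hom] [Flat Z.hom] [LocallyOfFinitePresentation Z.hom]
    [GeometricallyConnected Z.hom] [GeometricallyReduced Z.hom] [IsSeparated Y.hom] [GeometricallyConnected X.hom]
    (eX : 𝟙_ (Over S) ⟶ X) (eZ : 𝟙_ (Over S) ⟶ Z) (φ : X ⊗ Z ⟶ Y) (a : 𝟙_ (Over S) ⟶ Y)
    (h : lift (toUnit Z ≫ eX) (𝟙 Z) ≫ φ = toUnit Z ≫ a) :
    φ = fst X Z ≫ lift (𝟙 X) (toUnit X ≫ eZ) ≫ φ := by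
  let g : (X ⊗ Z).left ⟶ X.left := (fst X Z).left
  haveI : IsProper g := inferInstanceAs (IsProper (pullback.fst X.hom Z.hom))
  haveI : Flat g := inferInstanceAs (Flat (pullback.fst X.hom Z.hom))
  haveI : LocallyOfFinitePresentation g := inferInstanceAs (LocallyOfFinitePresentation (pullback.fst X.hom Z.hom))
  haveI : GeometricallyConnected g := inferInstanceAs (GeometricallyConnected (pullback.fst X.hom Z.hom))
  haveI : GeometricallyReduced g := inferInstanceAs (GeometricallyReduced (pullback.fst X.hom Z.hom))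
  have hb := bijective_app_of_geometrically g
  have hf : φ.left ≫ Y.hom = g ≫ X.hom := (Over.w φ).trans (Over.w (fst X Z)).symm
  have hcl := isClosed_collapse g φ.left X.hom Y.hom hf hb
  have hop := isOpen_collapse g φ.left hb
  have hmem : ∀ s : S, eX.left.base s ∈ collapse g φ.left := fun s => by
    refine ⟨a.left.base s, fun x hx => ?_⟩
    obtain ⟨z, hz1, hz2⟩ := Scheme.exists_preimage_of_isPullback (isPullback_lift_left (Z := Z) eX) x s hx
    rw [← hz1, ← hz2]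
    exact congrArg (fun m : Z.left ⟶ Y.left => m.base z) (congrArg CommaMorphism.left h)
  have hu : ∀ x : X.left, x ∈ collapse g φ.left := fun x => by
    have hx : X.hom.base (eX.left.base (X.hom.base x)) = X.hom.base x :=
      congrArg (fun m : S ⟶ S => m.base (X.hom.base x)) (Over.w eX)
    exact (X.hom.isConnected_preimage_singleton (X.hom.base x)).2.subset_isClopen ⟨hcl, hop⟩
      ⟨eX.left.base (X.hom.base x), hx, hmem _⟩ (rfl : x ∈ X.hom.base ⁻¹' {X.hom.base x})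
  obtain ⟨k, hk⟩ := exists_factor_on g φ.left hb ⊤ fun x _ => hu x
  have hk' : φ.left = g ≫ (Scheme.topIso X.left).inv ≫ k := by
    haveI : IsIso (g ⁻¹ᵁ ⊤).ι := inferInstanceAs (IsIso (Scheme.topIso _).hom)
    have e : (⊤ : X.left.Opens).ι ≫ (Scheme.topIso X.left).inv = 𝟙 _ := (Scheme.topIso X.left).hom_inv_id
    rw [← cancel_epi (g ⁻¹ᵁ ⊤).ι, hk, ← morphismRestrict_ι_assoc, reassoc_of% e]
  have hι : (lift (𝟙 X) (toUnit X ≫ eZ)).left ≫ g = 𝟙 _ :=
    congrArg CommaMorphism.left (lift_fst (𝟙 X) (toUnit X ≫ eZ))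
  ext1
  show φ.left = g ≫ (lift (𝟙 X) (toUnit X ≫ eZ)).left ≫ φ.left
  rw [hk', reassoc_of% hι]

theorem isMonHom_of_one_comp {X Y : Over S} [GrpObj X] [IsProper X.hom] [Flat X.hom]
    [LocallyOfFinitePresentation X.hom] [GeometricallyReduced X.hom] [GeometricallyConnected X.hom]
    [GrpObj Y] [IsSeparated Y.hom] (f : X ⟶ Y) (hf : η[X] ≫ f = η[Y]) : IsMonHom f := by
  have hone : ∀ {T : Over S}, (1 : T ⟶ X) ≫ f = 1 := fun {T} => by
    rw [Hom.one_def, Category.assoc, hf, ← Hom.one_def]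
  refine ⟨hf, ?_⟩
  let φ : X ⊗ X ⟶ Y := (fst X X ≫ f)⁻¹ * (μ[X] ≫ f) * (snd X X ≫ f)⁻¹
  have hμ : ∀ {T : Over S} (a b : T ⟶ X), lift a b ≫ μ[X] = a * b := fun a b => (Hom.mul_def a b).symm
  have hφ : ∀ {T : Over S} (a b : T ⟶ X), lift a b ≫ φ = (a ≫ f)⁻¹ * ((a * b) ≫ f) * (b ≫ f)⁻¹ := fun a b => by
    simp only [φ, MonObj.comp_mul, GrpObj.comp_inv, lift_fst_assoc, lift_snd_assoc]
    rw [← Category.assoc, hμ]
  have h0 : lift (toUnit X ≫ η[X]) (𝟙 X) ≫ φ = toUnit X ≫ η[Y] := by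
    rw [← Hom.one_def, ← Hom.one_def, hφ, hone, one_mul]
    simp
  have h1 := eq_fst_comp η[X] η[X] φ η[Y] h0
  rw [← Hom.one_def, hφ, hone, mul_one] at h1
  simp only [Category.id_comp, inv_mul_cancel, inv_one, mul_one, MonObj.comp_one] at h1
  have h2 : (fst X X ≫ f) * (snd X X ≫ f) = μ[X] ≫ f := by
    have e : (fst X X ≫ f)⁻¹ * (μ[X] ≫ f) * (snd X X ≫ f)⁻¹ = 1 := h1
    rw [mul_inv_eq_one, inv_mul_eq_iff_eq_mul] at e
    exact e.symm
  rw [← h2, Hom.mul_def]
  congr 1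

theorem isCommMonObj {X : Over S} [GrpObj X] [IsProper X.hom] [Flat X.hom]
    [LocallyOfFinitePresentation X.hom] [GeometricallyReduced X.hom] [GeometricallyConnected X.hom] :
    IsCommMonObj X := by
  haveI := isMonHom_of_one_comp (ι[X]) (GrpObj.one_inv)
  refine ⟨?_⟩
  have hι : ∀ {T : Over S} (a : T ⟶ X), a ≫ ι[X] = a⁻¹ := fun a => by
    rw [GrpObj.inv_eq_inv, GrpObj.comp_inv, Category.comp_id]
  have h : (fst X X * snd X X)⁻¹ = (fst X X)⁻¹ * (snd X X)⁻¹ := by
    rw [← hι, ← hι, ← hι]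
    exact MonObj.mul_comp _ _ _
  rw [MonObj.mul_eq_mul, MonObj.comp_mul]
  simp only [braiding_hom_fst, braiding_hom_snd]
  rw [← inv_inj, mul_inv_rev, h]

theorem grpObj_ext {X : Over S} [IsProper X.hom] [Flat X.hom] [LocallyOfFinitePresentation X.hom]
    [GeometricallyReduced X.hom] [GeometricallyConnected X.hom] (h₁ h₂ : GrpObj X) (he : h₁.one = h₂.one) :
    h₁ = h₂ := by
  have hid := @isMonHom_of_one_comp _ X X h₁ _ _ _ _ _ h₂ _ (𝟙 X) (by rw [Category.comp_id]; exact he)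
  refine GrpObj.ext h₁ h₂ (MonObj.ext _ _ ?_)
  have := hid.mul_hom
  simpa using this

theorem eq_on_clopen {X Y : Over S} [GrpObj X] [IsProper X.hom] [Flat X.hom]
    [LocallyOfFinitePresentation X.hom] [GeometricallyReduced X.hom] [GeometricallyConnected X.hom]
    [GrpObj Y] [IsSeparated Y.hom] (f g : X ⟶ Y) [IsMonHom f] [IsMonHom g] (s : S)
    (hs : X.hom.fiberι s ≫ f.left = X.hom.fiberι s ≫ g.left) :
    ∃ W : S.Opens, IsClosed (W : Set S) ∧ s ∈ W ∧ (X.hom ⁻¹ᵁ W).ι ≫ f.left = (X.hom ⁻¹ᵁ W).ι ≫ g.left := by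
  let φ : X ⟶ Y := f * g⁻¹
  have hb := bijective_app_of_geometrically X.hom
  have hf : φ.left ≫ Y.hom = X.hom ≫ 𝟙 S := (Over.w φ).trans (Category.comp_id _).symm
  let L : S.Opens := ⟨collapse X.hom φ.left, isOpen_collapse X.hom φ.left hb⟩
  obtain ⟨k, hk⟩ := exists_factor_on X.hom φ.left hb L subset_rfl
  refine ⟨L, isClosed_collapse X.hom φ.left (𝟙 S) Y.hom hf hb, ?_, ?_⟩
  · let T : Over S := Over.mk (X.hom.fiberι s ≫ X.hom)
    let a : T ⟶ X := Over.homMk (X.hom.fiberι s) rfl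
    have hafg : a ≫ f = a ≫ g := by ext1; exact hs
    have ha : a ≫ φ = 1 := by rw [MonObj.comp_mul, GrpObj.comp_inv, hafg, mul_inv_cancel]
    refine ⟨η[Y].left.base s, fun x hx => ?_⟩
    have hr : x ∈ Set.range (X.hom.fiberι s).base := by rw [X.hom.range_fiberι]; exact hx
    obtain ⟨z, rfl⟩ := hr
    refine (congrArg (fun m : T.left ⟶ Y.left => m.base z) (congrArg CommaMorphism.left ha)).trans ?_
    exact congrArg η[Y].left.base hx
  · let O := X.hom ⁻¹ᵁ L
    have hε : η[X] ≫ φ = η[Y] := by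
      rw [MonObj.comp_mul, GrpObj.comp_inv, IsMonHom.one_hom f, IsMonHom.one_hom g, mul_inv_cancel, ← MonObj.one_eq_one]
    have hεX : η[X].left ≫ X.hom = 𝟙 S := Over.w η[X]
    have hεL : Set.range (L.ι ≫ η[X].left).base ⊆ Set.range O.ι.base := by
      rintro _ ⟨z, rfl⟩
      rw [Scheme.Opens.range_ι]
      show X.hom.base (η[X].left.base (L.ι.base z)) ∈ L
      rw [← Scheme.Hom.comp_apply, hεX]
      exact z.2
    have hsec : IsOpenImmersion.lift O.ι _ hεL ≫ (X.hom ∣_ L) = 𝟙 _ := by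
      rw [← cancel_mono L.ι, Category.assoc, morphismRestrict_ι, IsOpenImmersion.lift_fac_assoc, Category.assoc, hεX]
      simp
    have hkL : k = L.ι ≫ η[Y].left := by
      rw [← Category.id_comp k, ← hsec, Category.assoc, ← hk, IsOpenImmersion.lift_fac_assoc, Category.assoc]
      exact congrArg (L.ι ≫ ·) (congrArg CommaMorphism.left hε)
    let T : Over S := Over.mk (O.ι ≫ X.hom)
    let a : T ⟶ X := Over.homMk O.ι rfl
    have ha : a ≫ φ = 1 := by
      ext1
      show O.ι ≫ φ.left = (O.ι ≫ X.hom) ≫ η[Y].left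
      rw [hk, hkL, morphismRestrict_ι_assoc, Category.assoc]
    have hfg : a ≫ f = a ≫ g := by
      rw [MonObj.comp_mul, GrpObj.comp_inv, mul_inv_eq_one] at ha
      exact ha
    exact congrArg CommaMorphism.left hfg

end H0Lib
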