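import Groth.Agent.FlatLib.FlatLocusScheme
import Groth.Agent.S12442
import Mathlib.AlgebraicGeometry.Morphisms.FlatRank
import Mathlib.AlgebraicGeometry.ZariskisMainTheorem

/-!
# The locus where a map of proper schemes is an isomorphism on fibres
-/

set_option autoImplicit false

universe u

open CategoryTheory CategoryTheory.Limits AlgebraicGeometry TopologicalSpace Topology

namespace H0Lib

variable {X Y S : Scheme.{u}} (f : X ⟶ Y) (h : Y ⟶ S)

theorem isIso_restrict_of_le {V W : Y.Opens} (hWV : W ≤ V) (hV : IsIso (f ∣_ V)) : IsIso (f ∣_ W) := by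
  haveI := IsZariskiLocalAtTarget.restrict (P := MorphismProperty.isomorphisms Scheme) hV (V.ι ⁻¹ᵁ W)
  have h1 : MorphismProperty.isomorphisms Scheme (f ∣_ V ∣_ (V.ι ⁻¹ᵁ W)) := this
  rw [(MorphismProperty.isomorphisms Scheme).arrow_mk_iso_iff (morphismRestrictRestrict f V (V.ι ⁻¹ᵁ W))] at h1
  have e : V.ι ''ᵁ (V.ι ⁻¹ᵁ W) = W := by
    rw [Scheme.Hom.image_preimage_eq_opensRange_inf, Scheme.Opens.opensRange_ι]
    exact inf_eq_right.mpr hWV
  rw [e] at h1
  exact h1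

theorem isIso_fiberMap_of_restrict (U : S.Opens) [IsIso (f ∣_ (h ⁻¹ᵁ U))] {s : S} (hs : s ∈ U) :
    IsIso (MoreMor.fiberMap f h s) := by
  have r : Set.range (h.fiberι s).base ⊆ Set.range (h ⁻¹ᵁ U).ι.base := by
    rw [Scheme.Opens.range_ι, h.range_fiberι]
    intro y hy
    show h.base y ∈ U
    rw [show h.base y = s from hy]
    exact hs
  have sq := FlatLib.isPullback_fiberMap f h s
  let a := IsOpenImmersion.lift (h ⁻¹ᵁ U).ι _ r
  have r' : Set.range ((f ≫ h).fiberι s).base ⊆ Set.range (f ⁻¹ᵁ h ⁻¹ᵁ U).ι.base := by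
    rw [Scheme.Opens.range_ι, (f ≫ h).range_fiberι]
    intro x hx
    show h.base (f.base x) ∈ U
    rw [show h.base (f.base x) = s from hx]
    exact hs
  let b := IsOpenImmersion.lift (f ⁻¹ᵁ h ⁻¹ᵁ U).ι _ r'
  have w : b ≫ (f ∣_ (h ⁻¹ᵁ U)) = MoreMor.fiberMap f h s ≫ a := by
    rw [← cancel_mono (h ⁻¹ᵁ U).ι, Category.assoc, morphismRestrict_ι, IsOpenImmersion.lift_fac_assoc,
      Category.assoc, IsOpenImmersion.lift_fac, FlatLib.fiberMap_ι]
  have sq2 : IsPullback b (MoreMor.fiberMap f h s) (f ∣_ (h ⁻¹ᵁ U)) a := by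
    refine IsPullback.of_right ?_ w (isPullback_morphismRestrict f (h ⁻¹ᵁ U)).flip
    rw [IsOpenImmersion.lift_fac, IsOpenImmersion.lift_fac]
    exact sq
  exact MorphismProperty.of_isPullback (P := MorphismProperty.isomorphisms Scheme) sq2 ‹_›

theorem exists_isIso_nhd [IsProper f] [LocallyOfFinitePresentation (f ≫ h)] [Flat (f ≫ h)]
    [LocallyOfFinitePresentation h] (s : S) [IsIso (MoreMor.fiberMap f h s)] (y : Y) (hy : h.base y = s) :
    ∃ V : Y.Opens, y ∈ V ∧ IsIso (f ∣_ V) := by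
  let p := MoreMor.fiberMap f h s
  let ι := (f ≫ h).fiberι s
  have sq := FlatLib.isPullback_fiberMap f h s
  have hmem : ∀ x : X, f.base x = y → ∃ z, ι.base z = x := fun x hx => by
    show x ∈ Set.range ι.base
    rw [(f ≫ h).range_fiberι]
    show h.base (f.base x) = s
    rw [hx, hy]
  have hfin : (f.base ⁻¹' {y}).Finite := by
    obtain ⟨w, hw⟩ : y ∈ Set.range (h.fiberι s).base := by rw [h.range_fiberι]; exact hy
    refine Set.Finite.subset (Set.finite_singleton (ι.base ((inv p).base w))) fun x hx => ?_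
    obtain ⟨z, rfl⟩ := hmem x hx
    have h1 : (h.fiberι s).base (p.base z) = (h.fiberι s).base w := by
      rw [hw, ← show f.base (ι.base z) = y from hx]
      exact congrArg (fun m : (f ≫ h).fiber s ⟶ Y => m.base z) (FlatLib.fiberMap_ι f h s)
    have h2 : z = (inv p).base w := by
      rw [← (h.fiberι s).isEmbedding.injective h1, ← Scheme.Hom.comp_apply, IsIso.hom_inv_id]
      rfl
    rw [h2]
    rfl
  obtain ⟨V, hyV, hV⟩ := exists_isFinite_morphismRestrict_of_finite_preimage_singleton f y hfin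
  haveI := hV
  let F : X.Opens := ⟨{x : X | (f.stalkMap x).hom.Flat}, by
    haveI : LocallyOfFinitePresentation f := Groth.Agent.S12442.lfp_of_comp_lft f h
    exact FlatLib.isOpen_setOf_flat_stalkMap f⟩
  have hF : ∀ x : X, f.base x = y → x ∈ F := fun x hx => by
    obtain ⟨z, hz⟩ := hmem x hx
    exact FlatLib.flatAt_of_fiberMap x z hz (FlatLib.flatAt_of_flat _ x) (FlatLib.flatAt_of_flat p z)
  let V' : Y.Opens := V ⊓ ⟨(f.base '' (F : Set X)ᶜ)ᶜ, (f.isClosedMap _ F.isOpen.isClosed_compl).isOpen_compl⟩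
  have hyV' : y ∈ V' := ⟨hyV, fun ⟨x, hx, hxy⟩ => hx (hF x hxy)⟩
  haveI : LocallyOfFinitePresentation f := Groth.Agent.S12442.lfp_of_comp_lft f h
  haveI : LocallyOfFinitePresentation (f ∣_ V') := IsZariskiLocalAtTarget.restrict ‹_› V'
  haveI : IsFinite (f ∣_ V') := by
    have h1 := IsZariskiLocalAtTarget.restrict (P := @IsFinite) hV (V.ι ⁻¹ᵁ V')
    rw [MorphismProperty.arrow_mk_iso_iff @IsFinite (morphismRestrictRestrict f V (V.ι ⁻¹ᵁ V'))] at h1
    have e : V.ι ''ᵁ (V.ι ⁻¹ᵁ V') = V' := by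
      rw [Scheme.Hom.image_preimage_eq_opensRange_inf, Scheme.Opens.opensRange_ι]
      exact inf_eq_right.mpr inf_le_left
    rwa [e] at h1
  haveI : Flat (f ∣_ V') := by
    rw [Flat.iff_flat_stalkMap]
    intro z
    have hz : (f ⁻¹ᵁ V').ι.base z ∈ F := by
      by_contra hne
      exact z.2.2 ⟨_, hne, rfl⟩
    exact (FlatLib.flat_stalkMap_iff_of_openImmersions (f ⁻¹ᵁ V').ι V'.ι (f ∣_ V') f
      (morphismRestrict_ι f V').symm z).mp hz
  have hr : (f ∣_ V').finrank ⟨y, hyV'⟩ = 1 := by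
    obtain ⟨w, hw⟩ : y ∈ Set.range (h.fiberι s).base := by rw [h.range_fiberι]; exact hy
    let q := pullback.snd (f ∣_ V') (pullback.fst V'.ι (h.fiberι s))
    haveI : IsIso q := by
      have sq' := ((IsPullback.of_hasPullback (f ∣_ V') (pullback.fst V'.ι (h.fiberι s))).paste_horiz
        (isPullback_morphismRestrict f V').flip)
      let k : pullback (f ∣_ V') (pullback.fst V'.ι (h.fiberι s)) ⟶ (f ≫ h).fiber s :=
        sq.lift (pullback.fst (f ∣_ V') (pullback.fst V'.ι (h.fiberι s)) ≫ (f ⁻¹ᵁ V').ι) (q ≫ pullback.snd V'.ι (h.fiberι s))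
          (by rw [sq'.w, Category.assoc, pullback.condition])
      have sq3 : IsPullback k q p (pullback.snd V'.ι (h.fiberι s)) := by
        refine IsPullback.of_right ?_ (sq.lift_snd _ _ _) sq
        rw [sq.lift_fst, ← pullback.condition]
        exact sq'
      exact MorphismProperty.of_isPullback (P := MorphismProperty.isomorphisms Scheme) sq3 (inferInstance : IsIso p)
    obtain ⟨v, hv1, hv2⟩ := Scheme.Pullback.exists_preimage_pullback (f := V'.ι) (g := h.fiberι s) ⟨y, hyV'⟩ w hw.symm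
    rw [← hv1, ← Scheme.Hom.finrank_pullback_snd, Scheme.Hom.finrank_eq_one_of_isIso]
    rfl
  let W : V'.toScheme.Opens := ⟨{v | (f ∣_ V').finrank v = 1},
    (Scheme.Hom.isLocallyConstant_finrank (f ∣_ V')).isOpen_fiber 1⟩
  refine ⟨V'.ι ''ᵁ W, ⟨⟨y, hyV'⟩, hr, rfl⟩, ?_⟩
  have h1 : IsIso ((f ∣_ V') ∣_ W) := by
    haveI : IsFinite ((f ∣_ V') ∣_ W) := IsZariskiLocalAtTarget.restrict ‹IsFinite (f ∣_ V')› W
    haveI : Flat ((f ∣_ V') ∣_ W) := IsZariskiLocalAtTarget.restrict ‹Flat (f ∣_ V')› W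
    haveI : LocallyOfFinitePresentation ((f ∣_ V') ∣_ W) :=
      IsZariskiLocalAtTarget.restrict ‹LocallyOfFinitePresentation (f ∣_ V')› W
    rw [Scheme.Hom.isIso_iff_finrank_eq]
    funext v
    rw [Scheme.Hom.finrank_of_isPullback _ _ _ _ (isPullback_morphismRestrict (f ∣_ V') W).flip v]
    exact v.2
  exact ((MorphismProperty.isomorphisms Scheme).arrow_mk_iso_iff (morphismRestrictRestrict f V' W)).mp h1

/-- The locus of the base over which a map is an isomorphism of fibres is open, and the map is an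
isomorphism over it. -/
theorem exists_isoLocus [IsProper f] [UniversallyClosed h] [LocallyOfFinitePresentation (f ≫ h)] [Flat (f ≫ h)]
    [LocallyOfFinitePresentation h] :
    ∃ U : S.Opens, (∀ s : S, s ∈ U ↔ IsIso (MoreMor.fiberMap f h s)) ∧ IsIso (f ∣_ (h ⁻¹ᵁ U)) := by
  let 𝒱 : Y.Opens := ⨆ V : {V : Y.Opens // IsIso (f ∣_ V)}, V.1
  let U : S.Opens := ⟨(h.base '' (𝒱 : Set Y)ᶜ)ᶜ, (h.isClosedMap _ 𝒱.isOpen.isClosed_compl).isOpen_compl⟩
  have hU : IsIso (f ∣_ (h ⁻¹ᵁ U)) := by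
    refine isIso_restrict_of_le f (V := 𝒱) (fun y hy => ?_) ?_
    · by_contra hne
      exact hy ⟨y, hne, rfl⟩
    · refine IsZariskiLocalAtTarget.of_iSup_eq_top (P := MorphismProperty.isomorphisms Scheme)
        (fun V : {V : Y.Opens // IsIso (f ∣_ V)} => 𝒱.ι ⁻¹ᵁ V.1) ?_ fun V => ?_
      · refine top_le_iff.mp fun v _ => ?_
        obtain ⟨V, hV⟩ := Opens.mem_iSup.mp v.2
        exact Opens.mem_iSup.mpr ⟨V, hV⟩
      · rw [(MorphismProperty.isomorphisms Scheme).arrow_mk_iso_iff (morphismRestrictRestrict f 𝒱 (𝒱.ι ⁻¹ᵁ V.1))]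
        have e : 𝒱.ι ''ᵁ (𝒱.ι ⁻¹ᵁ V.1) = V.1 := by
          rw [Scheme.Hom.image_preimage_eq_opensRange_inf, Scheme.Opens.opensRange_ι]
          exact inf_eq_right.mpr (le_iSup (fun V : {V : Y.Opens // IsIso (f ∣_ V)} => V.1) V)
        rw [e]
        exact V.2
  refine ⟨U, fun s => ⟨fun hs => isIso_fiberMap_of_restrict f h U hs, fun hs => ?_⟩, hU⟩
  rintro ⟨y, hy, rfl⟩
  obtain ⟨V, hyV, hV⟩ := exists_isIso_nhd f h (h.base y) y rfl
  exact hy (Opens.mem_iSup.mpr ⟨⟨V, hV⟩, hyV⟩)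

end H0Lib
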