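import Groth.Agent.H0Lib.Main

/-!
# Rigidity
-/

set_option autoImplicit false

universe u

open CategoryTheory CategoryTheory.Limits AlgebraicGeometry Opposite TopologicalSpace

namespace H0Lib

variable {X T Y : Scheme.{u}} (g : X ⟶ T) (f : X ⟶ Y)

/-- The points over which `f` collapses the fibres of `g`. -/
def collapse : Set T := {t | ∃ y : Y, ∀ x : X, g.base x = t → f.base x = y}

theorem bijective_restrict (hb : ∀ U : T.Opens, Function.Bijective (g.app U).hom) (W : T.Opens)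
    (U : W.toScheme.Opens) : Function.Bijective ((g ∣_ W).app U).hom := by
  rw [morphismRestrict_app]
  show Function.Bijective ((X.presheaf.map (eqToHom (image_morphismRestrict_preimage g W U)).op).hom ∘
    (g.app (W.ι ''ᵁ U)).hom)
  exact (ConcreteCategory.bijective_of_isIso (X.presheaf.map _)).comp (hb _)

/-- Morphisms out of the base are determined after composition with `g`. -/
theorem hom_ext_of_bijective [Surjective g] (hb : ∀ U : T.Opens, Function.Bijective (g.app U).hom)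
    (k k' : T ⟶ Y) (h : g ≫ k = g ≫ k') : k = k' := by
  have hpt : ∀ t : T, k.base t = k'.base t := fun t => by
    obtain ⟨x, rfl⟩ := g.surjective t
    exact congrArg (fun m : X ⟶ Y => m.base x) h
  have hV : ∀ t : T, ∃ V : Y.Opens, IsAffineOpen V ∧ k.base t ∈ V := fun t => by
    obtain ⟨V, hV, hy, -⟩ := exists_isAffineOpen_mem_and_subset (U := ⊤) (x := k.base t) trivial
    exact ⟨V, hV, hy⟩
  choose V hV hmem using hV
  refine (T.openCoverOfIsOpenCover (fun t => k ⁻¹ᵁ V t) ?_).hom_ext _ _ fun t => ?_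
  · exact top_le_iff.mp fun t _ => Opens.mem_iSup.mpr ⟨t, hmem t⟩
  · show (k ⁻¹ᵁ V t).ι ≫ k = (k ⁻¹ᵁ V t).ι ≫ k'
    set O := k ⁻¹ᵁ V t
    haveI : IsAffine (V t).toScheme := hV t
    have r1 : Set.range (O.ι ≫ k).base ⊆ Set.range (V t).ι.base := by
      rintro _ ⟨z, rfl⟩
      rw [Scheme.Opens.range_ι]
      exact z.2
    have r2 : Set.range (O.ι ≫ k').base ⊆ Set.range (V t).ι.base := by
      rintro _ ⟨z, rfl⟩
      rw [Scheme.Opens.range_ι]
      show k'.base (O.ι.base z) ∈ V t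
      rw [← hpt]
      exact z.2
    rw [← IsOpenImmersion.lift_fac (V t).ι _ r1, ← IsOpenImmersion.lift_fac (V t).ι _ r2]
    congr 1
    refine ext_of_isAffine ?_
    haveI : Mono (g ∣_ O).appTop := ConcreteCategory.mono_of_injective _ (bijective_restrict g hb O ⊤).1
    rw [← cancel_mono (g ∣_ O).appTop, ← Scheme.Hom.comp_appTop, ← Scheme.Hom.comp_appTop]
    congr 1
    rw [← cancel_mono (V t).ι]
    simp only [Category.assoc, IsOpenImmersion.lift_fac, morphismRestrict_ι_assoc, h]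

theorem exists_factor [UniversallyClosed g] [Surjective g] (hb : ∀ U : T.Opens, Function.Bijective (g.app U).hom)
    {t : T} (ht : t ∈ collapse g f) :
    ∃ W : T.Opens, t ∈ W ∧ ∃ k : W.toScheme ⟶ Y, (g ⁻¹ᵁ W).ι ≫ f = (g ∣_ W) ≫ k := by
  obtain ⟨y, hy⟩ := ht
  obtain ⟨V, hV, hyV, -⟩ := exists_isAffineOpen_mem_and_subset (U := ⊤) (x := y) trivial
  haveI : IsAffine V.toScheme := hV
  let W : T.Opens := ⟨(g.base '' (f.base ⁻¹' V)ᶜ)ᶜ,
    (g.isClosedMap _ (V.isOpen.preimage f.continuous).isClosed_compl).isOpen_compl⟩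
  have htW : t ∈ W := fun ⟨x, hx, hxt⟩ => hx (show f.base x ∈ V by rw [hy x hxt]; exact hyV)
  have r : Set.range ((g ⁻¹ᵁ W).ι ≫ f).base ⊆ Set.range V.ι.base := by
    rintro _ ⟨z, rfl⟩
    rw [Scheme.Opens.range_ι]
    by_contra hz
    exact z.2 ⟨_, hz, rfl⟩
  let h := IsOpenImmersion.lift V.ι _ r
  haveI : IsIso (g ∣_ W).appTop := by
    rw [ConcreteCategory.isIso_iff_bijective]
    exact bijective_restrict g hb W ⊤
  let k : W.toScheme ⟶ V.toScheme := W.toScheme.toSpecΓ ≫ Spec.map (h.appTop ≫ inv (g ∣_ W).appTop) ≫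
    V.toScheme.isoSpec.inv
  refine ⟨W, htW, k ≫ V.ι, ?_⟩
  rw [← IsOpenImmersion.lift_fac V.ι _ r, ← Category.assoc]
  congr 1
  refine ext_of_isAffine ?_
  have hk : k.appTop = h.appTop ≫ inv (g ∣_ W).appTop := by
    haveI : IsIso V.toScheme.isoSpec.hom.appTop := inferInstanceAs (IsIso (Scheme.Γ.map V.toScheme.isoSpec.hom.op))
    rw [← cancel_epi (V.toScheme.isoSpec.hom.appTop), ← Scheme.Hom.comp_appTop,
      show k ≫ V.toScheme.isoSpec.hom = W.toScheme.toSpecΓ ≫ Spec.map (h.appTop ≫ inv (g ∣_ W).appTop) by simp [k],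
      Scheme.Hom.comp_appTop, Scheme.toSpecΓ_appTop, Scheme.isoSpec_hom, Scheme.toSpecΓ_appTop,
      Scheme.ΓSpecIso_naturality]
  rw [Scheme.Hom.comp_appTop, hk, Category.assoc, IsIso.inv_hom_id, Category.comp_id]

theorem isOpen_collapse [UniversallyClosed g] [Surjective g]
    (hb : ∀ U : T.Opens, Function.Bijective (g.app U).hom) : IsOpen (collapse g f) := by
  refine isOpen_iff_forall_mem_open.mpr fun t ht => ?_
  obtain ⟨W, htW, k, hk⟩ := exists_factor g f hb ht
  refine ⟨W, fun s hs => ⟨k.base ⟨s, hs⟩, fun x hx => ?_⟩, W.isOpen, htW⟩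
  have hxW : x ∈ g ⁻¹ᵁ W := by show g.base x ∈ W; rw [hx]; exact hs
  have e := congrArg (fun m : (g ⁻¹ᵁ W).toScheme ⟶ Y => m.base ⟨x, hxW⟩) hk
  refine e.trans ?_
  show k.base ((g ∣_ W).base ⟨x, hxW⟩) = _
  congr 1
  exact Subtype.ext (by simpa [morphismRestrict_base] using hx)

/-- `f` factors through the base over an open subset of the collapse locus. -/
theorem exists_factor_on [UniversallyClosed g] [Surjective g]
    (hb : ∀ U : T.Opens, Function.Bijective (g.app U).hom) (U : T.Opens) (hU : (U : Set T) ⊆ collapse g f) :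
    ∃ k : U.toScheme ⟶ Y, (g ⁻¹ᵁ U).ι ≫ f = (g ∣_ U) ≫ k := by
  choose W htW k hk using fun t : U => exists_factor g f hb (hU t.2)
  let O : U → U.toScheme.Opens := fun t => U.ι ⁻¹ᵁ W t
  let 𝒰 := U.toScheme.openCoverOfIsOpenCover O (top_le_iff.mp fun t _ => Opens.mem_iSup.mpr ⟨t, htW t⟩)
  have hO : ∀ t : U, Set.range ((O t).ι ≫ U.ι).base ⊆ Set.range (W t).ι.base := fun t => by
    rintro _ ⟨z, rfl⟩
    rw [Scheme.Opens.range_ι]
    exact z.2
  let φ : ∀ t : U, (O t).toScheme ⟶ Y := fun t => IsOpenImmersion.lift (W t).ι _ (hO t) ≫ k t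
  haveI : ∀ t : U, Surjective ((g ∣_ U) ∣_ O t) := fun t =>
    IsZariskiLocalAtTarget.restrict (IsZariskiLocalAtTarget.restrict ‹Surjective g› U) _
  have hφ : ∀ t : U, ((g ∣_ U) ⁻¹ᵁ O t).ι ≫ (g ⁻¹ᵁ U).ι ≫ f = ((g ∣_ U) ∣_ O t) ≫ φ t := fun t => by
    have r : Set.range (((g ∣_ U) ⁻¹ᵁ O t).ι ≫ (g ⁻¹ᵁ U).ι).base ⊆ Set.range (g ⁻¹ᵁ W t).ι.base := by
      rintro _ ⟨z, rfl⟩
      rw [Scheme.Opens.range_ι]
      show g.base ((g ⁻¹ᵁ U).ι.base (((g ∣_ U) ⁻¹ᵁ O t).ι.base z)) ∈ W t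
      rw [← Scheme.Hom.comp_apply, ← morphismRestrict_ι, Scheme.Hom.comp_apply]
      exact z.2
    rw [← Category.assoc, ← IsOpenImmersion.lift_fac (g ⁻¹ᵁ W t).ι _ r, Category.assoc, hk t, ← Category.assoc,
      ← Category.assoc]
    congr 1
    rw [← cancel_mono (W t).ι]
    simp only [Category.assoc, IsOpenImmersion.lift_fac, morphismRestrict_ι, morphismRestrict_ι_assoc,
      IsOpenImmersion.lift_fac_assoc]
  clear_value φ
  have compat : ∀ t t' : U, pullback.fst (O t).ι (O t').ι ≫ φ t = pullback.snd (O t).ι (O t').ι ≫ φ t' := by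
    intro t t'
    have e := isPullback_opens_inf (O t) (O t')
    rw [← cancel_epi e.isoPullback.hom, IsPullback.isoPullback_hom_fst_assoc, IsPullback.isoPullback_hom_snd_assoc]
    haveI : Surjective ((g ∣_ U) ∣_ (O t ⊓ O t')) :=
      IsZariskiLocalAtTarget.restrict (IsZariskiLocalAtTarget.restrict ‹Surjective g› U) _
    refine hom_ext_of_bijective ((g ∣_ U) ∣_ (O t ⊓ O t'))
      (bijective_restrict _ (bijective_restrict g hb U) _) _ _ ?_
    have key : ∀ (a : U) (hle : O t ⊓ O t' ≤ O a), ((g ∣_ U) ∣_ (O t ⊓ O t')) ≫ U.toScheme.homOfLE hle ≫ φ a =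
        ((g ∣_ U) ⁻¹ᵁ (O t ⊓ O t')).ι ≫ (g ⁻¹ᵁ U).ι ≫ f := fun a hle => by
      have hle' : (g ∣_ U) ⁻¹ᵁ (O t ⊓ O t') ≤ (g ∣_ U) ⁻¹ᵁ O a := fun z hz => hle hz
      rw [← Scheme.homOfLE_ι_assoc _ hle', hφ a, ← Category.assoc, ← Category.assoc]
      congr 1
      rw [← cancel_mono (O a).ι]
      simp
    rw [key t inf_le_left, key t' inf_le_right]
  refine ⟨𝒰.glueMorphisms φ compat, ?_⟩
  refine ((g ⁻¹ᵁ U).toScheme.openCoverOfIsOpenCover (fun t => (g ∣_ U) ⁻¹ᵁ O t) ?_).hom_ext _ _ fun t => ?_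
  · exact top_le_iff.mp fun z _ => Opens.mem_iSup.mpr ⟨(g ∣_ U).base z, htW _⟩
  · show ((g ∣_ U) ⁻¹ᵁ O t).ι ≫ (g ⁻¹ᵁ U).ι ≫ f = ((g ∣_ U) ⁻¹ᵁ O t).ι ≫ (g ∣_ U) ≫ 𝒰.glueMorphisms φ compat
    rw [hφ t, ← morphismRestrict_ι_assoc]
    congr 1
    exact (Scheme.Cover.ι_glueMorphisms 𝒰 φ compat t).symm

/-- The collapse locus is closed when the target is separated. -/
theorem isClosed_collapse {S : Scheme.{u}} (p : T ⟶ S) (q : Y ⟶ S) [IsSeparated q] (hf : f ≫ q = g ≫ p)
    [UniversallyClosed g] [Surjective g] [UniversallyOpen g]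
    (hb : ∀ U : T.Opens, Function.Bijective (g.app U).hom) : IsClosed (collapse g f) := by
  let h := pullback.fst g g ≫ g
  let m := pullback.lift (f := q) (g := q) (pullback.fst g g ≫ f) (pullback.snd g g ≫ f)
    (by simp only [Category.assoc, hf, pullback.condition_assoc])
  have hm1 : m ≫ pullback.fst q q = pullback.fst g g ≫ f := pullback.lift_fst _ _ _
  have hm2 : m ≫ pullback.snd q q = pullback.snd g g ≫ f := pullback.lift_snd _ _ _
  let e := pullback.snd (pullback.diagonal q) m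
  haveI : IsClosedImmersion e := MorphismProperty.pullback_snd _ _ inferInstance
  have hopen : IsOpenMap h.base := by
    haveI : UniversallyOpen (pullback.fst g g) := MorphismProperty.pullback_fst _ _ ‹UniversallyOpen g›
    exact Scheme.Hom.isOpenMap h
  suffices hL : collapse g f = (h.base '' (Set.range e.base)ᶜ)ᶜ by
    rw [hL]; exact (hopen _ e.isClosedEmbedding.isClosed_range.isOpen_compl).isClosed_compl
  ext t
  constructor
  · rintro ht ⟨z, hz, rfl⟩
    obtain ⟨W, htW, k, hk⟩ := exists_factor g f hb ht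
    refine hz ?_
    let O := h ⁻¹ᵁ W
    have hlift : ∀ π : pullback g g ⟶ X, π ≫ g = h → O.ι ≫ π ≫ f = (h ∣_ W) ≫ k := fun π hπ => by
      have r : Set.range (O.ι ≫ π).base ⊆ Set.range (g ⁻¹ᵁ W).ι.base := by
        rintro _ ⟨w, rfl⟩
        rw [Scheme.Opens.range_ι]
        show g.base (π.base (O.ι.base w)) ∈ W
        rw [← Scheme.Hom.comp_apply π g, hπ]
        exact w.2
      rw [← Category.assoc, ← IsOpenImmersion.lift_fac (g ⁻¹ᵁ W).ι _ r, Category.assoc, hk, ← Category.assoc]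
      congr 1
      rw [← cancel_mono W.ι, Category.assoc, morphismRestrict_ι, morphismRestrict_ι,
        IsOpenImmersion.lift_fac_assoc, Category.assoc, hπ]
    have h1 := hlift (pullback.fst g g) rfl
    have h2 := hlift (pullback.snd g g) pullback.condition.symm
    let l : O.toScheme ⟶ pullback (pullback.diagonal q) m := pullback.lift ((h ∣_ W) ≫ k) O.ι (by
      apply pullback.hom_ext <;> simp [hm1, hm2, h1, h2])
    refine ⟨l.base ⟨z, htW⟩, ?_⟩
    rw [← Scheme.Hom.comp_apply, pullback.lift_snd]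
    rfl
  · intro ht
    obtain ⟨x₀, hx₀⟩ := g.surjective t
    refine ⟨f.base x₀, fun x hx => ?_⟩
    obtain ⟨z, hz1, hz2⟩ := Scheme.Pullback.exists_preimage_pullback (f := g) (g := g) x x₀ (hx.trans hx₀.symm)
    have hz : z ∈ Set.range e.base := by
      by_contra hne
      exact ht ⟨z, hne, by show g.base ((pullback.fst g g).base z) = t; rw [hz1, hx]⟩
    obtain ⟨w, rfl⟩ := hz
    have h1 : pullback.fst (pullback.diagonal q) m = e ≫ pullback.fst g g ≫ f := by
      have := congrArg (· ≫ pullback.fst q q) (pullback.condition (f := pullback.diagonal q) (g := m))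
      simpa [hm1, hm2, e] using this
    have h2 : pullback.fst (pullback.diagonal q) m = e ≫ pullback.snd g g ≫ f := by
      have := congrArg (· ≫ pullback.snd q q) (pullback.condition (f := pullback.diagonal q) (g := m))
      simpa [hm1, hm2, e] using this
    rw [← hz1, ← hz2]
    exact congrArg (fun n : pullback (pullback.diagonal q) m ⟶ Y => n.base w) (h1.symm.trans h2)

end H0Lib
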