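import Mathlib

/-!
# Base change of global functions along flat affine maps
-/

set_option autoImplicit false

universe u

open CategoryTheory CategoryTheory.Limits AlgebraicGeometry TensorProduct

namespace H0Lib

theorem isIso_of_isPushout_of_tensor (A A' B : Type u) [CommRing A] [CommRing A'] [CommRing B] [Algebra A A']
    [Algebra A B] {B' : CommRingCat.{u}} {φ' : CommRingCat.of B ⟶ B'} {a' : CommRingCat.of A' ⟶ B'}
    (sq : IsPushout (CommRingCat.ofHom (algebraMap A B)) (CommRingCat.ofHom (algebraMap A A')) φ' a') [IsIso a'] :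
    Function.Bijective ((Algebra.linearMap A B).lTensor A') := by
  have hT := CommRingCat.isPushout_tensorProduct A A' B
  let e := sq.flip.isoIsPushout _ _ hT
  have he : a' ≫ e.hom = CommRingCat.ofHom Algebra.TensorProduct.includeLeftRingHom :=
    IsPushout.inl_isoIsPushout_hom _ _ sq.flip hT
  have hb : Function.Bijective
      (Algebra.TensorProduct.includeLeftRingHom : A' →+* A' ⊗[A] B) := by
    have h := ConcreteCategory.bijective_of_isIso (a' ≫ e.hom)
    rw [he] at h
    exact h
  have h2 : ⇑((Algebra.linearMap A B).lTensor A') =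
      (Algebra.TensorProduct.includeLeftRingHom : A' →+* A' ⊗[A] B) ∘ TensorProduct.rid A A' := by
    ext z
    induction z using TensorProduct.induction_on with
    | zero => simp
    | add x y hx hy => simp only [map_add, Function.comp_apply] at hx hy ⊢; rw [hx, hy]
    | tmul x r =>
      simp only [LinearMap.lTensor_tmul, Algebra.linearMap_apply, Function.comp_apply, TensorProduct.rid_tmul]
      show x ⊗ₜ[A] algebraMap A B r = (r • x) ⊗ₜ[A] (1 : B)
      rw [Algebra.algebraMap_eq_smul_one, smul_tmul]
  rw [h2]
  exact hb.comp (TensorProduct.rid A A').bijective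

/-- An isomorphism of rings descends along a faithfully flat map. -/
theorem isIso_of_isPushout_faithfullyFlat {A B A' B' : CommRingCat.{u}} {a : A ⟶ B} {φ : A ⟶ A'}
    {φ' : B ⟶ B'} {a' : A' ⟶ B'} (sq : IsPushout a φ φ' a') (hφ : φ.hom.FaithfullyFlat) [IsIso a'] :
    IsIso a := by
  letI := φ.hom.toAlgebra
  letI := a.hom.toAlgebra
  haveI : Module.FaithfullyFlat A A' := hφ
  rw [ConcreteCategory.isIso_iff_bijective]
  exact (Module.FaithfullyFlat.lTensor_bijective_iff_bijective A A' (Algebra.linearMap A B)).mp
    (isIso_of_isPushout_of_tensor A A' B sq)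

/-- An isomorphism can be checked after localizing at all maximal ideals. -/
theorem isIso_of_forall_localization {A B : CommRingCat.{u}} (a : A ⟶ B)
    (h : ∀ (P : Ideal A) [P.IsMaximal], ∃ (B' : CommRingCat.{u}) (φ' : B ⟶ B')
      (a' : CommRingCat.of (Localization.AtPrime P) ⟶ B'),
      IsPushout a (CommRingCat.ofHom (algebraMap A (Localization.AtPrime P))) φ' a' ∧ IsIso a') :
    IsIso a := by
  letI := a.hom.toAlgebra
  rw [ConcreteCategory.isIso_iff_bijective]
  show Function.Bijective (Algebra.linearMap A B)
  refine bijective_of_isLocalized_maximal (fun P [P.IsMaximal] => Localization.AtPrime P ⊗[A] A)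
    (fun P [P.IsMaximal] => TensorProduct.mk A (Localization.AtPrime P) A 1)
    (fun P [P.IsMaximal] => Localization.AtPrime P ⊗[A] B)
    (fun P [P.IsMaximal] => TensorProduct.mk A (Localization.AtPrime P) B 1) _ fun P hP => ?_
  obtain ⟨B', φ', a', sq, ha⟩ := h P
  have hb : Function.Bijective ((Algebra.linearMap A B).lTensor (Localization.AtPrime P)) := by
    haveI := ha
    exact isIso_of_isPushout_of_tensor A (Localization.AtPrime P) B sq
  have he : IsLocalizedModule.map P.primeCompl (TensorProduct.mk A (Localization.AtPrime P) A 1)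
      (TensorProduct.mk A (Localization.AtPrime P) B 1) (Algebra.linearMap A B) =
      (Algebra.linearMap A B).lTensor (Localization.AtPrime P) := by
    refine IsLocalizedModule.ext P.primeCompl (TensorProduct.mk A (Localization.AtPrime P) A 1)
      (IsLocalizedModule.map_units (TensorProduct.mk A (Localization.AtPrime P) B 1)) ?_
    ext
    simp only [LinearMap.coe_comp, Function.comp_apply, TensorProduct.mk_apply]
    erw [IsLocalizedModule.map_apply]
    simp
  rw [he]
  exact hb

variable {X X' : Scheme.{u}} {A A' : CommRingCat.{u}} {f : X ⟶ Spec A} {φ : A ⟶ A'} {f' : X' ⟶ Spec A'}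
  {g : X' ⟶ X}

/-- Global functions commute with flat base change. -/
theorem isPushout_appTop (sq : IsPullback g f' f (Spec.map φ)) (hφ : φ.hom.Flat) [QuasiCompact f]
    [QuasiSeparated f] : IsPushout f.appTop (Spec.map φ).appTop g.appTop f'.appTop := by
  haveI : Flat (Spec.map φ) := (HasRingHomProperty.Spec_iff (P := @Flat)).mpr hφ
  haveI : CompactSpace X := QuasiCompact.compactSpace_of_compactSpace f
  haveI : QuasiSeparatedSpace X := quasiSeparatedSpace_of_quasiSeparated f
  have h := (isIso_pushoutSection_iff sq (US := ⊤) (UT := ⊤) (UX := ⊤) (UY := ⊤) le_top le_top (by simp)).mp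
    (isIso_pushoutSection_of_isQuasiSeparated_of_flat_right sq le_top le_top (by simp)
      (isAffineOpen_top _) (isAffineOpen_top _) isCompact_univ (isQuasiSeparated_univ))
  simpa [Scheme.Hom.appLE, Scheme.Hom.appTop] using h

theorem isPushout_ring (sq : IsPullback g f' f (Spec.map φ)) (hφ : φ.hom.Flat) [QuasiCompact f]
    [QuasiSeparated f] : IsPushout ((Scheme.ΓSpecIso A).inv ≫ f.appTop) φ g.appTop
      ((Scheme.ΓSpecIso A').inv ≫ f'.appTop) :=
  (isPushout_appTop sq hφ).of_iso (Scheme.ΓSpecIso A) (Iso.refl _) (Scheme.ΓSpecIso A') (Iso.refl _)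
    (by simp) (Scheme.ΓSpecIso_naturality φ) (by simp) (by simp)

theorem isIso_appTop_baseChange (sq : IsPullback g f' f (Spec.map φ)) (hφ : φ.hom.Flat) [QuasiCompact f]
    [QuasiSeparated f] [IsIso f.appTop] : IsIso f'.appTop :=
  (isPushout_appTop sq hφ).isIso_inr_of_isIso

theorem isIso_appTop_descend (sq : IsPullback g f' f (Spec.map φ)) (hφ : φ.hom.FaithfullyFlat) [QuasiCompact f]
    [QuasiSeparated f] [IsIso f'.appTop] : IsIso f.appTop := by
  haveI := isIso_of_isPushout_faithfullyFlat (isPushout_ring sq hφ.flat) hφ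
  exact IsIso.of_isIso_comp_left (Scheme.ΓSpecIso A).inv f.appTop

/-- Being an isomorphism on global functions is local on the base. -/
theorem isIso_appTop_of_localization {X : Scheme.{u}} {A : CommRingCat.{u}} (f : X ⟶ Spec A) [QuasiCompact f]
    [QuasiSeparated f]
    (h : ∀ (P : Ideal A) [P.IsMaximal],
      IsIso (pullback.snd f (Spec.map (CommRingCat.ofHom (algebraMap A (Localization.AtPrime P))))).appTop) :
    IsIso f.appTop := by
  haveI : IsIso ((Scheme.ΓSpecIso A).inv ≫ f.appTop) := isIso_of_forall_localization _ fun P hP => by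
    haveI := h P
    exact ⟨_, _, _, isPushout_ring (IsPullback.of_hasPullback _ _) (RingHom.flat_algebraMap_iff.mpr inferInstance),
      inferInstance⟩
  exact IsIso.of_isIso_comp_left (Scheme.ΓSpecIso A).inv f.appTop

end H0Lib
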