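import Groth.Agent.H0Lib.Descent

/-!
# Global functions on proper, geometrically connected and reduced schemes over a field
-/

set_option autoImplicit false

universe u

open CategoryTheory CategoryTheory.Limits AlgebraicGeometry Topology

namespace H0Lib

theorem isUnit_of_isIntegral {k B : Type u} [Field k] [CommRing B] [Algebra k B] [IsReduced B]
    (hidem : ∀ e : B, e * e = e → e = 0 ∨ e = 1) {x : B} (hx : IsIntegral k x) (hne : x ≠ 0) : IsUnit x := by
  obtain ⟨p, hp, hpx⟩ := hx
  obtain ⟨q, hq, hq0⟩ := Polynomial.exists_eq_pow_rootMultiplicity_mul_and_not_dvd p hp.ne_zero 0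
  rw [map_zero, sub_zero] at hq hq0
  set m := Polynomial.rootMultiplicity 0 p
  have hc : q.coeff 0 ≠ 0 := fun h => hq0 (Polynomial.X_dvd_iff.mpr h)
  have hxq : x * Polynomial.aeval x q = 0 := by
    have h : x ^ m * Polynomial.aeval x q = 0 := by
      rw [hq] at hpx
      have : Polynomial.aeval x (Polynomial.X ^ m * q) = 0 := hpx
      simpa using this
    refine IsReduced.eq_zero _ ⟨m + 1, ?_⟩
    rw [mul_pow, pow_succ (Polynomial.aeval x q) m]
    calc x ^ (m + 1) * (Polynomial.aeval x q ^ m * Polynomial.aeval x q)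
        = (x ^ m * Polynomial.aeval x q) * (x * Polynomial.aeval x q ^ m) := by ring
      _ = 0 := by rw [h, zero_mul]
  obtain ⟨r, hr⟩ := (Polynomial.X_dvd_iff (f := q - Polynomial.C (q.coeff 0))).mpr (by simp)
  have hqx : Polynomial.aeval x q = algebraMap k B (q.coeff 0) + x * Polynomial.aeval x r := by
    have : q = Polynomial.C (q.coeff 0) + Polynomial.X * r := by rw [← hr]; ring
    conv_lhs => rw [this]
    simp
  let s : B := -(algebraMap k B (q.coeff 0)⁻¹ * Polynomial.aeval x r)
  have hci : algebraMap k B (q.coeff 0)⁻¹ * algebraMap k B (q.coeff 0) = 1 := by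
    rw [← map_mul, inv_mul_cancel₀ hc, map_one]
  have hxs : x * s * x = x := by
    rw [hqx] at hxq
    linear_combination (-(algebraMap k B (q.coeff 0)⁻¹)) * hxq + x * hci
  rcases hidem (x * s) (by linear_combination s * hxs) with h | h
  · exact absurd (by rw [h, zero_mul] at hxs; exact hxs.symm) hne
  · exact .of_mul_eq_one _ h

theorem eq_zero_or_one_of_idempotent {X : Scheme.{u}} [AlgebraicGeometry.IsReduced X] [ConnectedSpace X]
    (e : Γ(X, ⊤)) (he : e * e = e) : e = 0 ∨ e = 1 := by
  have he1 : e * (1 - e) = 0 := by linear_combination -he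
  have hd : X.basicOpen e ⊓ X.basicOpen (1 - e) = ⊥ := by
    rw [← Scheme.basicOpen_mul, he1, Scheme.basicOpen_zero]
  have hu : X.basicOpen e ⊔ X.basicOpen (1 - e) = ⊤ := by
    refine top_le_iff.mp fun x _ => ?_
    have hs : IsUnit (X.presheaf.germ ⊤ x trivial e) ∨ IsUnit (X.presheaf.germ ⊤ x trivial (1 - e)) := by
      apply IsLocalRing.isUnit_or_isUnit_of_add_one
      rw [← map_add, add_sub_cancel, map_one]
    rcases hs with h | h
    · exact TopologicalSpace.Opens.mem_sup.mpr (Or.inl ((X.mem_basicOpen (U := ⊤) e x trivial).mpr h))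
    · exact TopologicalSpace.Opens.mem_sup.mpr (Or.inr ((X.mem_basicOpen (U := ⊤) (1 - e) x trivial).mpr h))
  have hcl : IsClopen (X.basicOpen e : Set X) := by
    refine ⟨⟨?_⟩, (X.basicOpen e).isOpen⟩
    have : (X.basicOpen e : Set X)ᶜ = X.basicOpen (1 - e) := by
      refine (IsCompl.eq_compl ?_).symm
      have h : IsCompl (X.basicOpen (1 - e) : Set X) (X.basicOpen e) := by
        refine ⟨Set.disjoint_iff_inter_eq_empty.mpr ?_, codisjoint_iff.mpr ?_⟩
        · rw [← TopologicalSpace.Opens.coe_inf, inf_comm, hd]; rfl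
        · show (X.basicOpen (1 - e) : Set X) ∪ _ = _
          rw [← TopologicalSpace.Opens.coe_sup, sup_comm, hu]; rfl
      exact h
    rw [this]
    exact (X.basicOpen (1 - e)).isOpen
  rcases isClopen_iff.mp hcl with h | h
  · left
    exact (basicOpen_eq_bot_iff e).mp (TopologicalSpace.Opens.ext h)
  · right
    have : X.basicOpen (1 - e) = ⊥ := by
      have h' : X.basicOpen e = ⊤ := TopologicalSpace.Opens.ext h
      rwa [h', top_inf_eq] at hd
    linear_combination -((basicOpen_eq_bot_iff (1 - e)).mp this)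

theorem isIso_appTop_of_isAlgClosed {k : Type u} [Field k] [IsAlgClosed k] {X : Scheme.{u}}
    (f : X ⟶ Spec (CommRingCat.of k)) [UniversallyClosed f] [AlgebraicGeometry.IsReduced X] [ConnectedSpace X] :
    IsIso f.appTop := by
  let F := (Scheme.ΓSpecIso (CommRingCat.of k)).inv ≫ f.appTop
  suffices IsIso F from IsIso.of_isIso_comp_left (Scheme.ΓSpecIso (CommRingCat.of k)).inv f.appTop
  letI : Algebra k Γ(X, ⊤) := F.hom.toAlgebra
  haveI : Algebra.IsIntegral k Γ(X, ⊤) := ⟨by
    have h : F.hom.IsIntegral := RingHom.isIntegral_respectsIso.2 f.appTop.hom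
      (Scheme.ΓSpecIso (CommRingCat.of k)).symm.commRingCatIsoToRingEquiv
      (isIntegral_appTop_of_universallyClosed f)
    exact h⟩
  obtain ⟨x⟩ : Nonempty X := inferInstance
  haveI : Nontrivial Γ(X, ⊤) := (X.presheaf.germ ⊤ x trivial).hom.domain_nontrivial
  have hF : IsField Γ(X, ⊤) := ⟨exists_pair_ne _, mul_comm, fun {a} ha =>
    (isUnit_of_isIntegral eq_zero_or_one_of_idempotent (Algebra.IsIntegral.isIntegral (R := k) a) ha).exists_right_inv⟩
  haveI : IsDomain Γ(X, ⊤) := hF.isDomain
  rw [ConcreteCategory.isIso_iff_bijective]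
  exact IsAlgClosed.algebraMap_bijective_of_isIntegral (k := k) (K := Γ(X, ⊤))

/-- Global functions on a proper geometrically connected and reduced scheme over a field. -/
theorem isIso_appTop_of_field {k : Type u} [Field k] {X : Scheme.{u}}
    (f : X ⟶ Spec (CommRingCat.of k)) [UniversallyClosed f] [QuasiSeparated f] [GeometricallyConnected f]
    [GeometricallyReduced f] : IsIso f.appTop := by
  let φ : CommRingCat.of k ⟶ CommRingCat.of (AlgebraicClosure k) :=
    CommRingCat.ofHom (algebraMap k (AlgebraicClosure k))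
  let f' := pullback.snd f (Spec.map φ)
  haveI : ConnectedSpace ↥(Spec (CommRingCat.of (AlgebraicClosure k))) := inferInstance
  haveI : Subsingleton ↥(Spec (CommRingCat.of (AlgebraicClosure k))) :=
    inferInstanceAs (Subsingleton (PrimeSpectrum (AlgebraicClosure k)))
  haveI : UniversallyClosed f' := MorphismProperty.pullback_snd _ _ inferInstance
  haveI : ConnectedSpace ↥(pullback f (Spec.map φ)) := GeometricallyConnected.connectedSpace_of_subsingleton f'
  haveI : AlgebraicGeometry.IsReduced (pullback f (Spec.map φ)) :=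
    (inferInstance : GeometricallyReduced f).geometrically_isReduced _ _ _ (IsPullback.of_hasPullback _ _)
  haveI := isIso_appTop_of_isAlgClosed f'
  refine isIso_appTop_descend (IsPullback.of_hasPullback f (Spec.map φ)) ?_
  exact RingHom.faithfullyFlat_algebraMap_iff.mpr inferInstance

end H0Lib
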