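import Groth.Agent.H0Lib.Local
import Groth.Agent.ConsLib.FGSystem
import Groth.Agent.ConsLib.PairProper
import Groth.Agent.RichLib.LimitDescentFlat
import Groth.Agent.DescFP.Main

/-!
# Global functions of proper flat finitely presented schemes over local rings
-/

set_option autoImplicit false

universe u

open CategoryTheory CategoryTheory.Limits AlgebraicGeometry Opposite RichLib.LimBC

namespace H0Lib

theorem isNoetherianRing_fgSub {R : Type u} [CommRing R] [Algebra (ULift.{u} ℤ) R] (B : ConsLib.FGSub (ULift.{u} ℤ) R) :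
    IsNoetherianRing B.1 := by
  haveI : IsNoetherianRing (ULift.{u} ℤ) := isNoetherianRing_of_ringEquiv ℤ ULift.ringEquiv.symm
  haveI : Algebra.FiniteType (ULift.{u} ℤ) B.1 := ⟨(Subalgebra.fg_top _).mpr B.2⟩
  exact Algebra.FiniteType.isNoetherianRing (ULift.{u} ℤ) B.1

set_option maxHeartbeats 1000000 in
/-- Global functions of a proper flat finitely presented scheme over a local ring. -/
theorem isIso_appTop_of_local {R : CommRingCat.{u}} [IsLocalRing R] {X : Scheme.{u}} (f : X ⟶ Spec R)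
    [IsProper f] [Flat f] [LocallyOfFinitePresentation f]
    (hcl : IsIso (pullback.snd f (Spec.map (CommRingCat.ofHom (IsLocalRing.residue R)))).appTop) :
    IsIso f.appTop := by
  letI : Algebra (ULift.{u} ℤ) R := ((Int.castRingHom R).comp ULift.ringEquiv.toRingHom).toAlgebra
  let A := ConsLib.fgSys (ULift.{u} ℤ) R (Iso.refl (Spec (CommRingCat.of (ULift.{u} ℤ))))
  haveI hD : ∀ (i j : (ConsLib.FGSub (ULift.{u} ℤ) R)ᵒᵖ) (a : i ⟶ j), IsAffineHom (A.D.map a) :=
    fun _ _ a => A.affine_map a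
  haveI := A.compactSpace_obj
  haveI := A.quasiSeparatedSpace_obj
  haveI : ∀ i, IsAffine (A.D.obj i) := fun i => inferInstanceAs (IsAffine (Spec (CommRingCat.of i.unop.1)))
  haveI : IsAffine A.c.pt := inferInstanceAs (IsAffine (Spec R))
  -- a model
  obtain ⟨i₀, ⟨M⟩⟩ := @DescFP.exists_model _ _ _ A.D A.c A.hc _ _ _ X (f : X ⟶ A.c.pt)
    (inferInstanceAs (LocallyOfFinitePresentation f)) (inferInstanceAs (QuasiCompact f)) (inferInstanceAs (QuasiSeparated f))
  haveI := M.lfp
  haveI := M.qc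
  haveI := M.qs
  let A₀ := ofStage A.D A.c A.hc i₀
  have hlim : ∀ (P : MorphismProperty Scheme.{u}) [P.RespectsIso], P f → AtLim A₀ M.p P := fun P _ hf => by
    show P (pullback.snd M.p (A.c.π.app i₀))
    rw [← M.sq.isoPullback_inv_snd]
    exact (MorphismProperty.cancel_left_of_respectsIso P _ _).mpr hf
  obtain ⟨φ₁, h₁⟩ := ConsLib.exists_at_isProper A₀ M.p (hlim @IsProper inferInstance)
  obtain ⟨φ₂, h₂⟩ := exists_at_flat A₀ M.p (hlim @Flat inferInstance)
  obtain ⟨φ₃, a₁, a₂, -⟩ := IsCofilteredOrEmpty.cone_objs φ₁ φ₂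
  have hproper : IsProper (pullback.snd M.p (A₀.t φ₃)) := at_of_hom A₀ M.p a₁ h₁
  have hflat : Flat (pullback.snd M.p (A₀.t φ₃)) := at_of_hom A₀ M.p a₂ h₂
  -- the system above the good stage
  let j₀ := φ₃.left
  let p := pullback.snd M.p (A₀.t φ₃)
  let A₁ := ofStage A.D A.c A.hc j₀
  have sq : IsPullback (M.push φ₃.hom).g f p (A.c.π.app j₀) := (M.push φ₃.hom).sq
  let e : pullback p (A.c.π.app j₀) ≅ X := sq.isoPullback.symm
  have he : e.hom ≫ f = pullback.snd p (A.c.π.app j₀) := sq.isoPullback_inv_snd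
  let str := (Scheme.ΓSpecIso R).inv ≫ (pullback.snd p (A.c.π.app j₀)).appTop
  suffices hstr : IsIso str by
    haveI : IsIso (pullback.snd p (A.c.π.app j₀)).appTop :=
      IsIso.of_isIso_comp_left (Scheme.ΓSpecIso R).inv (pullback.snd p (A.c.π.app j₀)).appTop
    exact @isIso_appTop_of_iso _ _ _ e.inv _ (pullback.snd p (A.c.π.app j₀)) f ((Iso.inv_comp_eq e).mpr he.symm) this
  -- the local rings of the stages
  have key : ∀ φ : Over j₀, ∃ (L : CommRingCat.{u}) (l : CommRingCat.of φ.left.unop.1 ⟶ L) (ψ : L ⟶ R),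
      l ≫ ψ = CommRingCat.ofHom φ.left.unop.1.val.toRingHom ∧
      IsIso (pullback.snd (pullback.snd p (A₁.t φ)) (Spec.map l)).appTop := by
    intro φ
    let B := φ.left.unop.1
    haveI : IsNoetherianRing B := isNoetherianRing_fgSub φ.left.unop
    let P : Ideal B := (IsLocalRing.maximalIdeal R).comap B.val.toRingHom
    let L := CommRingCat.of (Localization.AtPrime P)
    let l : CommRingCat.of B ⟶ L := CommRingCat.ofHom (algebraMap B (Localization.AtPrime P))
    have hu : ∀ y : P.primeCompl, IsUnit (B.val.toRingHom y) := fun y =>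
      not_not.mp fun h => y.2 h
    let ψ : L ⟶ R := CommRingCat.ofHom (IsLocalization.lift (M := P.primeCompl) hu)
    have hlψ : l ≫ ψ = CommRingCat.ofHom B.val.toRingHom :=
      CommRingCat.hom_ext (IsLocalization.lift_comp hu)
    refine ⟨L, l, ψ, hlψ, ?_⟩
    let q := pullback.snd p (A₁.t φ)
    haveI : IsProper q := MorphismProperty.pullback_snd _ _ hproper
    haveI : Flat q := MorphismProperty.pullback_snd _ _ hflat
    let q' := pullback.snd q (Spec.map l)
    haveI : IsProper q' := MorphismProperty.pullback_snd _ _ ‹IsProper q›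
    haveI : Flat q' := MorphismProperty.pullback_snd _ _ ‹Flat q›
    haveI : IsLocalRing L := inferInstanceAs (IsLocalRing (Localization.AtPrime P))
    haveI : IsNoetherianRing L := inferInstanceAs (IsNoetherianRing (Localization.AtPrime P))
    let κ : L ⟶ CommRingCat.of (IsLocalRing.ResidueField R) := ψ ≫ CommRingCat.ofHom (IsLocalRing.residue R)
    refine isIso_appTop_of_noetherian_local q' (ClosedH0.of_one q' κ ?_ ?_)
    · refine ((IsLocalRing.maximalIdeal.isMaximal L).eq_of_le (RingHom.ker_ne_top _) ?_).symm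
      show IsLocalRing.maximalIdeal (Localization.AtPrime P) ≤ _
      rw [← Localization.AtPrime.map_eq_maximalIdeal, Ideal.map_le_iff_le_comap]
      intro b hb
      show IsLocalRing.residue R (ψ.hom (l.hom b)) = 0
      rw [show ψ.hom (l.hom b) = B.val.toRingHom b from RingHom.congr_fun (IsLocalization.lift_comp hu) b]
      exact Ideal.Quotient.eq_zero_iff_mem.mpr hb
    · let res := Spec.map (CommRingCat.ofHom (IsLocalRing.residue R))
      let tφ : Spec (CommRingCat.of B) ⟶ A.D.obj j₀ := A₁.t φ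
      have hπ : Spec.map (CommRingCat.ofHom B.val.toRingHom) ≫ tφ = A.c.π.app j₀ := A₁.hs φ
      have hc : Spec.map κ ≫ Spec.map l ≫ tφ = res ≫ A.c.π.app j₀ := by
        rw [← hπ, ← hlψ, Spec.map_comp, Spec.map_comp]
        simp only [res, Category.assoc]
      rw [isIso_snd_iff q (Spec.map l) (Spec.map κ) rfl, isIso_snd_iff p (A₁.t φ) (Spec.map κ ≫ Spec.map l)
        ((Category.assoc _ _ _).trans hc)]
      haveI := hcl
      exact isIso_appTop_of_iso ((IsPullback.of_hasPullback f res).paste_horiz sq).isoPullback.inv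
        (IsPullback.isoPullback_inv_snd _)
  -- the limit system
  let B₁ := pb A₁ p
  haveI : IsProper p := hproper
  haveI : CompactSpace (A₀.D.obj φ₃) := A.compactSpace_obj φ₃.left
  haveI : QuasiSeparatedSpace (A₀.D.obj φ₃) := A.quasiSeparatedSpace_obj φ₃.left
  haveI : CompactSpace ↥(pullback M.p (A₀.t φ₃)) := QuasiCompact.compactSpace_of_compactSpace p
  haveI : QuasiSeparatedSpace ↥(pullback M.p (A₀.t φ₃)) := quasiSeparatedSpace_of_quasiSeparated p
  haveI : ∀ {a b : Over j₀} (m : a ⟶ b), IsAffineHom (B₁.D.map m) := fun m => B₁.affine_map m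
  haveI := B₁.compactSpace_obj
  haveI := B₁.quasiSeparatedSpace_obj
  have hnat : ∀ φ : Over j₀, CommRingCat.ofHom φ.left.unop.1.val.toRingHom ≫ str =
      (Scheme.ΓSpecIso (CommRingCat.of φ.left.unop.1)).inv ≫ (pullback.snd p (A₁.t φ)).appTop ≫
        (pbπ A₁ p φ).appTop := fun φ => by
    let v : Spec R ⟶ Spec (CommRingCat.of φ.left.unop.1) :=
      Spec.map (CommRingCat.ofHom φ.left.unop.1.val.toRingHom)
    have h1 : pbπ A₁ p φ ≫ pullback.snd p (A₁.t φ) = pullback.snd p (A.c.π.app j₀) ≫ v := pbπ_snd A₁ p φ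
    have h2 : (pullback.snd p (A₁.t φ)).appTop ≫ (pbπ A₁ p φ).appTop =
        v.appTop ≫ (pullback.snd p (A.c.π.app j₀)).appTop :=
      (congrArg (fun m => Scheme.Hom.appTop (X := pullback p (A.c.π.app j₀)) (Y := Spec (CommRingCat.of φ.left.unop.1)) m) h1)
    exact ((Scheme.ΓSpecIso_inv_naturality_assoc _ _)).trans (congrArg ((Scheme.ΓSpecIso _).inv ≫ ·) h2.symm)
  rw [ConcreteCategory.isIso_iff_bijective]
  refine ⟨(injective_iff_map_eq_zero str.hom).mpr fun a ha => ?_, fun s => ?_⟩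
  · -- injectivity
    let Ba : ConsLib.FGSub (ULift.{u} ℤ) R :=
      ⟨j₀.unop.1 ⊔ Algebra.adjoin (ULift.{u} ℤ) {a}, j₀.unop.2.sup (Subalgebra.fg_def.mpr ⟨{a}, Set.finite_singleton a, rfl⟩)⟩
    let φ : Over j₀ := Over.mk (homOfLE (show j₀.unop ≤ Ba from (le_sup_left : j₀.unop.1 ≤ j₀.unop.1 ⊔ _))).op
    let b : φ.left.unop.1 := ⟨a, le_sup_right (a := j₀.unop.1) (Algebra.subset_adjoin rfl)⟩
    let t := ((Scheme.ΓSpecIso (CommRingCat.of φ.left.unop.1)).inv ≫ (pullback.snd p (A₁.t φ)).appTop).hom b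
    have ht : (B₁.c.π.app φ).app ⊤ t = (B₁.c.π.app φ).app ⊤ 0 := by
      refine Eq.trans ?_ (map_zero _).symm
      refine Eq.trans ?_ ha
      exact (congrArg (fun m => (m : CommRingCat.of φ.left.unop.1 ⟶ _).hom b) (hnat φ)).symm
    obtain ⟨χ, m, hm⟩ := exists_app_map_eq_map_of_isLimit B₁.D B₁.c B₁.hc isCompact_univ t 0 ht
    rw [map_zero] at hm
    let Bh : CommRingCat.of φ.left.unop.1 ⟶ CommRingCat.of χ.left.unop.1 :=
      CommRingCat.ofHom (Subalgebra.inclusion (leOfHom m.left.unop)).toRingHom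
    have hm' : ((Scheme.ΓSpecIso (CommRingCat.of χ.left.unop.1)).inv ≫ (pullback.snd p (A₁.t χ)).appTop).hom (Bh.hom b) = 0 := by
      refine Eq.trans ?_ hm
      have e : Bh ≫ (Scheme.ΓSpecIso _).inv ≫ (pullback.snd p (A₁.t χ)).appTop =
          ((Scheme.ΓSpecIso (CommRingCat.of φ.left.unop.1)).inv ≫ (pullback.snd p (A₁.t φ)).appTop) ≫
            (pbMap A₁ p m).appTop := by
        let v : Spec (CommRingCat.of χ.left.unop.1) ⟶ Spec (CommRingCat.of φ.left.unop.1) := Spec.map Bh
        let qχ : pullback p (A₁.t χ) ⟶ Spec (CommRingCat.of χ.left.unop.1) := pullback.snd p (A₁.t χ)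
        let qφ : pullback p (A₁.t φ) ⟶ Spec (CommRingCat.of φ.left.unop.1) := pullback.snd p (A₁.t φ)
        have h1 : pbMap A₁ p m ≫ qφ = qχ ≫ v := pbMap_snd A₁ p m
        have h2 : qφ.appTop ≫ (pbMap A₁ p m).appTop = v.appTop ≫ qχ.appTop :=
          congrArg (fun n => Scheme.Hom.appTop (X := pullback p (A₁.t χ)) (Y := Spec (CommRingCat.of φ.left.unop.1)) n) h1
        have e₀ := ((congrArg ((Scheme.ΓSpecIso (CommRingCat.of φ.left.unop.1)).inv ≫ ·) h2).trans
          (Scheme.ΓSpecIso_inv_naturality_assoc Bh qχ.appTop).symm).symm.trans (Category.assoc _ _ _).symm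
        exact e₀
      exact congrArg (fun m => (m : CommRingCat.of φ.left.unop.1 ⟶ _).hom b) e
    obtain ⟨L, l, ψ, hlψ, hiso⟩ := key χ
    have hl : l.hom (Bh.hom b) = 0 := by
      let q' := pullback.snd (pullback.snd p (A₁.t χ)) (Spec.map l)
      haveI := hiso
      apply (ConcreteCategory.bijective_of_isIso ((Scheme.ΓSpecIso L).inv ≫ q'.appTop)).1
      refine Eq.trans ?_ (map_zero _).symm
      have e : l ≫ (Scheme.ΓSpecIso L).inv ≫ q'.appTop =
          ((Scheme.ΓSpecIso _).inv ≫ (pullback.snd p (A₁.t χ)).appTop) ≫ (pullback.fst _ (Spec.map l)).appTop := by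
        let qχ : pullback p (A₁.t χ) ⟶ Spec (CommRingCat.of χ.left.unop.1) := pullback.snd p (A₁.t χ)
        let fs : pullback (pullback.snd p (A₁.t χ)) (Spec.map l) ⟶ pullback p (A₁.t χ) := pullback.fst _ _
        let q₂ : pullback (pullback.snd p (A₁.t χ)) (Spec.map l) ⟶ Spec L := pullback.snd _ _
        have h1 : fs ≫ qχ = q₂ ≫ Spec.map l := pullback.condition
        have h2 : qχ.appTop ≫ fs.appTop = (Spec.map l).appTop ≫ q₂.appTop :=
          congrArg (fun n => Scheme.Hom.appTop (X := pullback (pullback.snd p (A₁.t χ)) (Spec.map l))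
            (Y := Spec (CommRingCat.of χ.left.unop.1)) n) h1
        exact ((congrArg ((Scheme.ΓSpecIso (CommRingCat.of χ.left.unop.1)).inv ≫ ·) h2).trans
          (Scheme.ΓSpecIso_inv_naturality_assoc l q₂.appTop).symm).symm.trans (Category.assoc _ _ _).symm
      refine (congrArg (fun m => (m : CommRingCat.of χ.left.unop.1 ⟶ _).hom (Bh.hom b)) e).trans ?_
      exact (congrArg (pullback.fst (pullback.snd p (A₁.t χ)) (Spec.map l)).appTop.hom hm').trans (map_zero _)
    have := congrArg ψ.hom hl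
    rw [map_zero, ← RingHom.comp_apply, ← CommRingCat.hom_comp, hlψ] at this
    exact this
  · -- surjectivity
    obtain ⟨φ, t, ht⟩ := exists_appTop_π_eq_of_isLimit B₁.D B₁.c B₁.hc s
    obtain ⟨L, l, ψ, hlψ, hiso⟩ := key φ
    let q' := pullback.snd (pullback.snd p (A₁.t φ)) (Spec.map l)
    let w : pullback p (A.c.π.app j₀) ⟶ pullback (pullback.snd p (A₁.t φ)) (Spec.map l) :=
      pullback.lift (pbπ A₁ p φ) (pullback.snd p (A.c.π.app j₀) ≫ Spec.map ψ) (by
        refine (pbπ_snd A₁ p φ).trans ((congrArg (pullback.snd p (A.c.π.app j₀) ≫ ·) ?_).trans (Category.assoc _ _ _).symm)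
        show Spec.map (CommRingCat.ofHom φ.left.unop.1.val.toRingHom) = _
        exact ((congrArg Spec.map hlψ).symm).trans (Spec.map_comp l ψ))
    haveI := hiso
    obtain ⟨a, ha⟩ := (ConcreteCategory.bijective_of_isIso ((Scheme.ΓSpecIso L).inv ≫ q'.appTop)).2
      ((pullback.fst (pullback.snd p (A₁.t φ)) (Spec.map l)).appTop.hom t)
    refine ⟨ψ.hom a, ?_⟩
    have e : ψ ≫ str = ((Scheme.ΓSpecIso L).inv ≫ q'.appTop) ≫ w.appTop := by
      rw [Category.assoc, ← Scheme.Hom.comp_appTop, pullback.lift_snd, Scheme.Hom.comp_appTop,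
        Scheme.ΓSpecIso_inv_naturality_assoc]
      rfl
    refine (congrArg (fun m => (m : L ⟶ _).hom a) e).trans ?_
    rw [CommRingCat.hom_comp, RingHom.comp_apply, ha]
    refine Eq.trans ?_ ht.symm
    show ((pullback.fst (pullback.snd p (A₁.t φ)) (Spec.map l)).appTop ≫ w.appTop).hom t = _
    rw [← Scheme.Hom.comp_appTop, pullback.lift_fst]
    rfl

end H0Lib
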