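import Groth.Agent.H0Lib.Field
import Groth.Prelude.Def_ega3

/-!
# Fibres with only constant global functions
-/

set_option autoImplicit false

universe u

open CategoryTheory CategoryTheory.Limits AlgebraicGeometry

namespace H0Lib

/-- All fibres over field valued points have only constant global functions. -/
def H0Fib {X S : Scheme.{u}} (f : X ⟶ S) : Prop :=
  ∀ (K : Type u) [Field K] (x : Spec (CommRingCat.of K) ⟶ S), IsIso (pullback.snd f x).appTop

theorem isIso_appTop_of_iso {X X' Y : Scheme.{u}} (e : X' ⟶ X) [IsIso e] {f : X ⟶ Y} {f' : X' ⟶ Y}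
    (h : e ≫ f = f') [IsIso f.appTop] : IsIso f'.appTop := by
  subst h
  rw [Scheme.Hom.comp_appTop]
  haveI : IsIso e.appTop := inferInstanceAs (IsIso (Scheme.Γ.map e.op))
  infer_instance

theorem isIso_appTop_of_isPullback {X P Y S : Scheme.{u}} {f : X ⟶ S} {g : P ⟶ X} {p : P ⟶ Y} {y : Y ⟶ S}
    (sq : IsPullback g p f y) (h : IsIso (pullback.snd f y).appTop) : IsIso p.appTop :=
  isIso_appTop_of_iso sq.isoPullback.hom sq.isoPullback_hom_snd

theorem H0Fib.baseChange {X S X' S' : Scheme.{u}} {f : X ⟶ S} {g : S' ⟶ S} {f' : X' ⟶ S'} {g' : X' ⟶ X}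
    (h : H0Fib f) (sq : IsPullback g' f' f g) : H0Fib f' := fun K _ x =>
  isIso_appTop_of_isPullback ((IsPullback.of_hasPullback f' x).paste_horiz sq) (h K (x ≫ g))

theorem H0Fib.of_geometrically {X S : Scheme.{u}} (f : X ⟶ S) [UniversallyClosed f] [QuasiSeparated f]
    [GeometricallyConnected f] [GeometricallyReduced f] : H0Fib f := fun K _ x => by
  haveI : UniversallyClosed (pullback.snd f x) := MorphismProperty.pullback_snd _ _ inferInstance
  exact isIso_appTop_of_field _

theorem H0Fib.of_fiber {X S : Scheme.{u}} (f : X ⟶ S) [QuasiCompact f] [QuasiSeparated f]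
    (h : ∀ s : S, Function.Bijective (algebraMap (S.residueField s) Γ(f.fiber s, ⊤))) : H0Fib f := fun K _ x => by
  obtain ⟨⟨s, φ⟩, rfl⟩ : ∃ sφ : Σ s : S, S.residueField s ⟶ CommRingCat.of K,
      Spec.map sφ.2 ≫ S.fromSpecResidueField sφ.1 = x :=
    ⟨Scheme.SpecToEquivOfField K S x, (Scheme.SpecToEquivOfField K S).symm_apply_apply x⟩
  haveI : IsIso (pullback.snd f (S.fromSpecResidueField s)).appTop := by
    haveI : IsIso ((Scheme.ΓSpecIso (S.residueField s)).inv ≫ (f.fiberToSpecResidueField s).appTop) := by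
      rw [ConcreteCategory.isIso_iff_bijective]
      exact h s
    exact IsIso.of_isIso_comp_left (Scheme.ΓSpecIso (S.residueField s)).inv (f.fiberToSpecResidueField s).appTop
  let e := pullbackLeftPullbackSndIso f (S.fromSpecResidueField s) (Spec.map φ)
  have h2 : IsIso (pullback.snd (pullback.snd f (S.fromSpecResidueField s)) (Spec.map φ)).appTop := by
    refine isIso_appTop_baseChange (IsPullback.of_hasPullback (pullback.snd f (S.fromSpecResidueField s)) (Spec.map φ)) ?_
    letI := φ.hom.toAlgebra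
    exact RingHom.flat_algebraMap_iff.mpr inferInstance
  exact isIso_appTop_of_iso e.inv ((Iso.inv_comp_eq e).mpr (pullbackLeftPullbackSndIso_hom_snd _ _ _).symm)

end H0Lib
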