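import Groth.Agent.H0Lib.Fib
import Groth.Agent.S11468
import Groth.Agent.AdicRingLib.Completion

/-!
# Global functions of proper flat schemes over Noetherian local rings
-/

set_option autoImplicit false

universe u

open CategoryTheory CategoryTheory.Limits AlgebraicGeometry

namespace H0Lib

variable {A : CommRingCat.{u}} {X : Scheme.{u}} (f : X ⟶ Spec A)

/-- The closed fibre (over any field) of a scheme over a local ring has only constant global functions. -/
def ClosedH0 [IsLocalRing A] : Prop :=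
  ∀ (K : Type u) [Field K] (φ : A ⟶ CommRingCat.of K), RingHom.ker φ.hom = IsLocalRing.maximalIdeal A →
    IsIso (pullback.snd f (Spec.map φ)).appTop

theorem ClosedH0.of_H0Fib [IsLocalRing A] {f : X ⟶ Spec A} (h : H0Fib f) : ClosedH0 f := fun K _ _ _ => h K _

omit f in
theorem isIso_snd_iff {X S T T' : Scheme.{u}} (f : X ⟶ S) (a : T ⟶ S) (b : T' ⟶ T) {c : T' ⟶ S} (h : b ≫ a = c) :
    IsIso (pullback.snd (pullback.snd f a) b).appTop ↔ IsIso (pullback.snd f c).appTop := by
  subst h
  refine ⟨fun h => ?_, fun h => ?_⟩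
  · haveI := h
    exact isIso_appTop_of_iso (pullbackLeftPullbackSndIso f a b).inv
      ((Iso.inv_comp_eq _).mpr (pullbackLeftPullbackSndIso_hom_snd _ _ _).symm)
  · haveI := h
    exact isIso_appTop_of_iso (pullbackLeftPullbackSndIso f a b).hom (pullbackLeftPullbackSndIso_hom_snd _ _ _)

theorem ClosedH0.of_one [IsLocalRing A] [QuasiCompact f] [QuasiSeparated f] {K : Type u} [Field K]
    (φ : A ⟶ CommRingCat.of K) (hφ : RingHom.ker φ.hom = IsLocalRing.maximalIdeal A)
    (h : IsIso (pullback.snd f (Spec.map φ)).appTop) : ClosedH0 f := by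
  let k := A ⧸ IsLocalRing.maximalIdeal A
  letI : Field k := Ideal.Quotient.field _
  let π : A ⟶ CommRingCat.of k := CommRingCat.ofHom (Ideal.Quotient.mk _)
  have key : ∀ (L : Type u) [Field L] (ψ : A ⟶ CommRingCat.of L), RingHom.ker ψ.hom = IsLocalRing.maximalIdeal A →
      ∃ ψ' : CommRingCat.of k ⟶ CommRingCat.of L, π ≫ ψ' = ψ := fun L _ ψ hψ =>
    ⟨CommRingCat.ofHom (Ideal.Quotient.lift _ ψ.hom fun a ha => by rwa [← hψ, RingHom.mem_ker] at ha),
      CommRingCat.hom_ext (RingHom.ext fun a => rfl)⟩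
  have hff : ∀ (L : Type u) [Field L] (ψ : CommRingCat.of k ⟶ CommRingCat.of L), ψ.hom.FaithfullyFlat := by
    intro L _ ψ
    letI := ψ.hom.toAlgebra
    exact RingHom.faithfullyFlat_algebraMap_iff.mpr inferInstance
  haveI hk : IsIso (pullback.snd f (Spec.map π)).appTop := by
    obtain ⟨φ', rfl⟩ := key K φ hφ
    haveI := (isIso_snd_iff f _ _ (Spec.map_comp π φ').symm).mpr h
    exact isIso_appTop_descend (IsPullback.of_hasPullback _ _) (hff K φ')
  intro L _ ψ hψ
  obtain ⟨ψ', rfl⟩ := key L ψ hψ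
  haveI := isIso_appTop_baseChange (IsPullback.of_hasPullback (pullback.snd f (Spec.map π)) (Spec.map ψ')) (hff L ψ').flat
  exact (isIso_snd_iff f _ _ (Spec.map_comp π ψ').symm).mp this

/-- The thickened closed fibres. -/
noncomputable abbrev thick (J : Ideal A) : Scheme.{u} :=
  pullback f (Spec.map (CommRingCat.ofHom (Ideal.Quotient.mk J)))

theorem bijective_thick [IsLocalRing A] [IsNoetherianRing A] [Flat f] (hcl : ClosedH0 f) (n : ℕ) :
    IsIso (pullback.snd f (Spec.map (CommRingCat.ofHom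
      (Ideal.Quotient.mk (IsLocalRing.maximalIdeal A ^ (n + 1)))))).appTop := by
  let J := IsLocalRing.maximalIdeal A ^ (n + 1)
  let C := A ⧸ J
  have hJ : J ≤ IsLocalRing.maximalIdeal A := Ideal.pow_le_self n.succ_ne_zero
  haveI : Nontrivial C := Ideal.Quotient.nontrivial_iff.mpr fun e =>
    (IsLocalRing.maximalIdeal.isMaximal A).ne_top (top_le_iff.mp (e.ge.trans hJ))
  haveI : IsLocalRing C := IsLocalRing.of_surjective' (Ideal.Quotient.mk J) Ideal.Quotient.mk_surjective
  haveI : IsArtinianRing C := by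
    refine (isArtinianRing_iff_isNilpotent_maximalIdeal C).mpr ⟨n + 1, ?_⟩
    rw [← IsLocalRing.map_maximalIdeal_of_surjective (Ideal.Quotient.mk J) Ideal.Quotient.mk_surjective,
      ← Ideal.map_pow, Ideal.zero_eq_bot, Ideal.map_eq_bot_iff_le_ker, Ideal.mk_ker]
  let g := pullback.snd f (Spec.map (CommRingCat.ofHom (Ideal.Quotient.mk J)))
  let π : CommRingCat.of C ⟶ CommRingCat.of (C ⧸ IsLocalRing.maximalIdeal C) :=
    CommRingCat.ofHom (Ideal.Quotient.mk _)
  haveI : Flat g := MorphismProperty.pullback_snd _ _ ‹Flat f›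
  have h0 : IsIso (pullback.snd g (Spec.map π)).appTop := by
    letI : Field (C ⧸ IsLocalRing.maximalIdeal C) := Ideal.Quotient.field _
    have h := hcl (C ⧸ IsLocalRing.maximalIdeal C) (CommRingCat.ofHom (Ideal.Quotient.mk J) ≫ π) (by
      refine ((IsLocalRing.maximalIdeal.isMaximal A).eq_of_le (RingHom.ker_ne_top _) fun a ha => ?_).symm
      rw [RingHom.mem_ker]
      refine Ideal.Quotient.eq_zero_iff_mem.mpr ?_
      rw [← IsLocalRing.map_maximalIdeal_of_surjective (Ideal.Quotient.mk J) Ideal.Quotient.mk_surjective]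
      exact Ideal.mem_map_of_mem _ ha)
    exact (isIso_snd_iff f _ _ (Spec.map_comp _ π).symm).mpr h
  haveI := h0
  haveI : IsIso ((Scheme.ΓSpecIso (CommRingCat.of C)).inv ≫ g.appTop) := by
    rw [ConcreteCategory.isIso_iff_bijective]
    exact Groth.Agent.S11468.result C _ _ g _ (pullback.snd g (Spec.map π)) (IsPullback.of_hasPullback g (Spec.map π))
      (ConcreteCategory.bijective_of_isIso _)
  exact IsIso.of_isIso_comp_left (Scheme.ΓSpecIso (CommRingCat.of C)).inv g.appTop

theorem mem_map_of_res_eq_zero (J : Ideal A) {U : X.Opens} (hU : IsAffineOpen U) (b : Γ(X, U))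
    (h : ((pullback.fst f (Spec.map (CommRingCat.ofHom (Ideal.Quotient.mk J)))).app U).hom b = 0) :
    b ∈ J.map ((Scheme.ΓSpecIso A).inv ≫ f.appLE ⊤ U le_top).hom := by
  let φ : A ⟶ CommRingCat.of (A ⧸ J) := CommRingCat.ofHom (Ideal.Quotient.mk J)
  have sq := IsPullback.of_hasPullback f (Spec.map φ)
  have hp := (isIso_pushoutSection_iff sq (US := ⊤) (UT := ⊤) (UX := U)
      (UY := (pullback.fst f (Spec.map φ)) ⁻¹ᵁ U) le_top le_top (by simp)).mp
    (isIso_pushoutSection_of_isAffineOpen sq le_top le_top (by simp) (isAffineOpen_top _) (isAffineOpen_top _) hU)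
  let ψ := (Scheme.ΓSpecIso A).inv ≫ f.appLE ⊤ U le_top
  let I := J.map ψ.hom
  let c₂ : Γ(Spec (CommRingCat.of (A ⧸ J)), ⊤) ⟶ CommRingCat.of (Γ(X, U) ⧸ I) :=
    (Scheme.ΓSpecIso _).hom ≫ CommRingCat.ofHom (Ideal.quotientMap I ψ.hom Ideal.le_comap_map)
  have hw : f.appLE ⊤ U le_top ≫ CommRingCat.ofHom (Ideal.Quotient.mk I) =
      (Spec.map φ).appLE ⊤ ⊤ le_top ≫ c₂ := by
    rw [show (Spec.map φ).appLE ⊤ ⊤ le_top = (Spec.map φ).appTop from by
      rw [Scheme.Hom.appTop, Scheme.Hom.app_eq_appLE]; rfl]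
    rw [← cancel_epi (Scheme.ΓSpecIso A).inv, ← Category.assoc, ← Category.assoc (Scheme.ΓSpecIso A).inv,
      ← Scheme.ΓSpecIso_inv_naturality]
    simp only [c₂, Category.assoc, Iso.inv_hom_id_assoc]
    rfl
  have h2 := congrArg (fun m => (m : Γ(X, U) ⟶ CommRingCat.of (Γ(X, U) ⧸ I)).hom b)
    (hp.inl_desc (CommRingCat.ofHom (Ideal.Quotient.mk I)) c₂ hw)
  simp only [CommRingCat.hom_comp, RingHom.comp_apply] at h2
  rw [Scheme.Hom.app_eq_appLE] at h
  erw [h, map_zero] at h2
  exact Ideal.Quotient.eq_zero_iff_mem.mp h2.symm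

theorem eq_zero_of_thick [IsLocalRing A] [IsNoetherianRing A] [UniversallyClosed f] [LocallyOfFiniteType f]
    (s : Γ(X, ⊤))
    (h : ∀ n : ℕ, ((pullback.fst f (Spec.map (CommRingCat.ofHom
      (Ideal.Quotient.mk (IsLocalRing.maximalIdeal A ^ (n + 1)))))).appTop).hom s = 0) : s = 0 := by
  haveI : IsLocallyNoetherian X := LocallyOfFiniteType.isLocallyNoetherian f
  have hgerm : ∀ x : X, f.base x = IsLocalRing.closedPoint A → X.presheaf.germ ⊤ x trivial s = 0 := by
    intro x hx
    obtain ⟨_, ⟨U, hU, rfl⟩, hxU, -⟩ :=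
      X.isBasis_affineOpens.exists_subset_of_mem_open (Set.mem_univ x) isOpen_univ
    let ψ := (Scheme.ΓSpecIso A).inv ≫ f.appLE ⊤ U le_top ≫ X.presheaf.germ U x hxU
    have hψ : (IsLocalRing.maximalIdeal A).map ψ.hom ≤ IsLocalRing.maximalIdeal (X.presheaf.stalk x) := by
      refine Ideal.map_le_iff_le_comap.mpr fun a ha hu => ?_
      have hmem : x ∈ X.basicOpen ((f.appLE ⊤ U le_top).hom ((Scheme.ΓSpecIso A).inv.hom a)) :=
        (X.mem_basicOpen _ x hxU).mpr hu
      rw [Scheme.basicOpen_appLE] at hmem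
      have h2 : f.base x ∈ (Spec A).basicOpen ((Scheme.ΓSpecIso A).inv.hom a) := hmem.2
      rw [hx, basicOpen_eq_of_affine] at h2
      exact h2 ha
    rw [← X.presheaf.germ_res_apply (homOfLE le_top : U ⟶ ⊤) x hxU, ← Ideal.mem_bot,
      ← Ideal.iInf_pow_eq_bot_of_isLocalRing (IsLocalRing.maximalIdeal (X.presheaf.stalk x))
        (IsLocalRing.maximalIdeal.isMaximal _).ne_top, Submodule.mem_iInf]
    intro n
    refine Ideal.pow_le_pow_right n.le_succ ?_
    refine Ideal.pow_right_mono hψ (n + 1) ?_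
    rw [← Ideal.map_pow]
    have hm := mem_map_of_res_eq_zero f (IsLocalRing.maximalIdeal A ^ (n + 1)) hU
      ((X.presheaf.map (homOfLE le_top : U ⟶ ⊤).op).hom s) (by
        have e := congrArg (fun m => (m : Γ(X, ⊤) ⟶ _).hom s) ((pullback.fst f (Spec.map (CommRingCat.ofHom
          (Ideal.Quotient.mk (IsLocalRing.maximalIdeal A ^ (n + 1)))))).naturality (homOfLE le_top : U ⟶ ⊤).op)
        simp only [CommRingCat.hom_comp, RingHom.comp_apply] at e
        exact e.trans (by erw [h n]; exact map_zero _))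
    have := Ideal.mem_map_of_mem (X.presheaf.germ U x hxU).hom hm
    rwa [Ideal.map_map] at this
  have hall : ∀ x : X, X.presheaf.germ ⊤ x trivial s = 0 := by
    let V : Set X := {x | X.presheaf.germ ⊤ x trivial s = 0}
    have hV : IsOpen V := isOpen_iff_forall_mem_open.mpr fun x hx => by
      obtain ⟨W, hxW, i₁, i₂, e⟩ := X.presheaf.germ_eq (U := ⊤) (V := ⊤) x trivial trivial s 0 (hx.trans (map_zero _).symm)
      refine ⟨W, fun z hz => ?_, W.isOpen, hxW⟩
      show X.presheaf.germ ⊤ z trivial s = 0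
      rw [← X.presheaf.germ_res_apply i₁ z hz, e, map_zero, map_zero]
    by_contra hne
    push Not at hne
    obtain ⟨x, hx⟩ := hne
    have hcl : IsClosed (f.base '' Vᶜ) := f.isClosedMap _ hV.isClosed_compl
    obtain ⟨z, hz, hzc⟩ := (IsLocalRing.specializes_closedPoint (f.base x)).mem_closed hcl ⟨x, hx, rfl⟩
    exact hz (hgerm z hzc)
  exact TopCat.Presheaf.section_ext X.sheaf ⊤ s 0 fun x _ => (hall x).trans (map_zero _).symm

/-- Global functions over a complete local ring. -/
theorem isIso_appTop_of_complete [IsLocalRing A] [IsNoetherianRing A]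
    [IsAdicComplete (IsLocalRing.maximalIdeal A) A] [Flat f] [UniversallyClosed f] [LocallyOfFiniteType f]
    (hcl : ClosedH0 f) : IsIso f.appTop := by
  let J : ℕ → Ideal A := fun n => IsLocalRing.maximalIdeal A ^ (n + 1)
  let c := fun n => (pullback.fst f (Spec.map (CommRingCat.ofHom (Ideal.Quotient.mk (J n))))).appTop
  let str := (Scheme.ΓSpecIso A).inv ≫ f.appTop
  suffices IsIso str from IsIso.of_isIso_comp_left (Scheme.ΓSpecIso A).inv f.appTop
  have hstr : ∀ n, str ≫ c n = CommRingCat.ofHom (Ideal.Quotient.mk (J n)) ≫ (Scheme.ΓSpecIso _).inv ≫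
      (pullback.snd f (Spec.map (CommRingCat.ofHom (Ideal.Quotient.mk (J n))))).appTop := by
    intro n
    rw [Category.assoc, ← Scheme.Hom.comp_appTop, pullback.condition, Scheme.Hom.comp_appTop,
      Scheme.ΓSpecIso_inv_naturality_assoc]
    rfl
  have hb : ∀ n, Function.Bijective ((Scheme.ΓSpecIso _).inv ≫
      (pullback.snd f (Spec.map (CommRingCat.ofHom (Ideal.Quotient.mk (J n))))).appTop) := fun n => by
    haveI := bijective_thick f hcl n
    exact ConcreteCategory.bijective_of_isIso _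
  have hker : ∀ n a, (c n).hom (str.hom a) = 0 ↔ a ∈ J n := fun n a => by
    have e := congrArg (fun m => (m : A ⟶ _).hom a) (hstr n)
    simp only [CommRingCat.hom_comp, RingHom.comp_apply] at e
    rw [show (c n).hom (str.hom a) = _ from e, ← Ideal.Quotient.eq_zero_iff_mem]
    constructor
    · intro h0
      exact (hb n).1 (h0.trans (map_zero _).symm)
    · intro h0
      simp only [CommRingCat.hom_ofHom, h0, map_zero]
  have hc : ∀ n (t : Γ(X, ⊤)), (c (n + 1)).hom t = 0 → (c n).hom t = 0 := by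
    intro n t ht
    let τ : Spec (CommRingCat.of (A ⧸ J n)) ⟶ Spec (CommRingCat.of (A ⧸ J (n + 1))) :=
      Spec.map (CommRingCat.ofHom (Ideal.Quotient.factor (Ideal.pow_le_pow_right (Nat.le_succ _))))
    let j : thick f (J n) ⟶ thick f (J (n + 1)) := pullback.lift (pullback.fst _ _) (pullback.snd _ _ ≫ τ) (by
      rw [pullback.condition, Category.assoc, ← Spec.map_comp]
      congr 2)
    have e : c n = c (n + 1) ≫ j.appTop := by
      rw [← Scheme.Hom.comp_appTop, pullback.lift_fst]
    rw [e, CommRingCat.hom_comp, RingHom.comp_apply, ht, map_zero]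
  rw [ConcreteCategory.isIso_iff_bijective]
  refine ⟨(injective_iff_map_eq_zero str.hom).mpr fun a ha => ?_, fun s => ?_⟩
  · refine IsHausdorff.haus (inferInstance : IsHausdorff (IsLocalRing.maximalIdeal A) A) a fun n => ?_
    rw [SModEq.zero, smul_eq_mul, Ideal.mul_top]
    exact Ideal.pow_le_pow_right n.le_succ ((hker n a).mp (by rw [ha, map_zero]))
  · have hex : ∀ n, ∃ b : A, (c n).hom (str.hom b) = (c n).hom s := fun n => by
      obtain ⟨y, hy⟩ := (hb n).2 ((c n).hom s)
      obtain ⟨b, rfl⟩ := Ideal.Quotient.mk_surjective y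
      refine ⟨b, ?_⟩
      exact (congrArg (fun m => (m : A ⟶ _).hom b) (hstr n)).trans hy
    choose b hb' using hex
    have hstep : ∀ n, b (n + 1) - b n ∈ J n := fun n => by
      rw [← hker, map_sub, map_sub, hb' n]
      have h1 := hc n (str.hom (b (n + 1)) - s) (by rw [map_sub, hb', sub_self])
      rwa [map_sub] at h1
    have hJm : ∀ {m n : ℕ}, m ≤ n → b n - b m ∈ J m := by
      intro m n hmn
      induction n, hmn using Nat.le_induction with
      | base => simp
      | succ n hmn ih =>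
        rw [← sub_add_sub_cancel (b (n + 1)) (b n) (b m)]
        exact add_mem (Ideal.pow_le_pow_right (Nat.succ_le_succ hmn) (hstep n)) ih
    obtain ⟨L, hL⟩ := IsPrecomplete.prec (inferInstance : IsPrecomplete (IsLocalRing.maximalIdeal A) A)
      (f := b) fun {m n} hmn => by
        rw [SModEq.sub_mem, smul_eq_mul, Ideal.mul_top, ← neg_sub, neg_mem_iff]
        exact Ideal.pow_le_pow_right m.le_succ (hJm hmn)
    refine ⟨L, sub_eq_zero.mp (eq_zero_of_thick f _ fun n => ?_)⟩
    have hL' : b (n + 1) - L ∈ J n := by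
      have := hL (n + 1)
      rwa [SModEq.sub_mem, smul_eq_mul, Ideal.mul_top] at this
    have h3 : L - b n ∈ J n := by
      rw [← sub_sub_sub_cancel_left _ _ (b (n + 1))]
      exact sub_mem (hstep n) hL'
    have h4 := (hker n _).mpr h3
    rw [map_sub, map_sub, hb' n] at h4
    show (c n).hom (str.hom L - s) = 0
    rw [map_sub]
    exact h4

/-- Global functions over a Noetherian local ring. -/
theorem isIso_appTop_of_noetherian_local [IsLocalRing A] [IsNoetherianRing A]
    [Flat f] [IsProper f] (hcl : ClosedH0 f) : IsIso f.appTop := by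
  let A' := AdicCompletion (IsLocalRing.maximalIdeal A) A
  let φ : A ⟶ CommRingCat.of A' := CommRingCat.ofHom (algebraMap A A')
  let f' := pullback.snd f (Spec.map φ)
  haveI : IsProper f' := MorphismProperty.pullback_snd _ _ inferInstance
  haveI : Flat f' := MorphismProperty.pullback_snd _ _ ‹Flat f›
  haveI : IsNoetherianRing A' := AdicRingLib.isNoetherianRing_adicCompletion (IsLocalRing.maximalIdeal A)
  haveI : Module.FaithfullyFlat A A' := Module.FaithfullyFlat.of_flat_of_isLocalHom
  haveI : IsLocalRing (CommRingCat.of A' : CommRingCat.{u}) := inferInstanceAs (IsLocalRing A')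
  haveI : IsNoetherianRing (CommRingCat.of A' : CommRingCat.{u}) := inferInstanceAs (IsNoetherianRing A')
  haveI : IsAdicComplete (IsLocalRing.maximalIdeal (CommRingCat.of A' : CommRingCat.{u})) (CommRingCat.of A' : CommRingCat.{u}) :=
    inferInstanceAs (IsAdicComplete (IsLocalRing.maximalIdeal A') A')
  have hcl' : ClosedH0 f' := fun K _ ψ hψ => by
    have h := hcl K (φ ≫ ψ) (by
      rw [CommRingCat.hom_comp, ← RingHom.comap_ker, hψ]
      exact ((IsLocalRing.local_hom_TFAE (algebraMap A A')).out 0 4 rfl rfl).mp inferInstance)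
    exact (isIso_snd_iff f _ _ (Spec.map_comp φ ψ).symm).mpr h
  haveI := isIso_appTop_of_complete f' hcl'
  exact isIso_appTop_descend (IsPullback.of_hasPullback f (Spec.map φ))
    (RingHom.faithfullyFlat_algebraMap_iff.mpr inferInstance)

end H0Lib
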